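import Groth.Agent.Abvar.PicCalc

/-!
# Inverse image by a Frobenius endomorphism
-/

set_option autoImplicit false

universe u

open CategoryTheory Limits AlgebraicGeometry TopologicalSpace
open Groth.PicAux

namespace Groth.Abvar.Dual.FrobPull

/-- The inverse image of an invertible module by an endomorphism acting on functions by `n`-th powers
is its `n`-th power. -/
theorem nonempty_pullback_iso_tensorPow {X : Scheme.{u}} (f : X ⟶ X) (hle : ∀ U : X.Opens, U ≤ f ⁻¹ᵁ U)
    (n : ℕ) (hf : ∀ (U : X.Opens) (s : Γ(X, U)), (f.appLE U U (hle U)).hom s = s ^ n) {L : X.Modules}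
    (hL : PicF.IsInvertible L) :
    Nonempty (CohB1.tensorPow L n ≅ (Scheme.Modules.pullback f).obj L) := by
  obtain ⟨U, s, hU, -, hs⟩ := exists_gen_cover hL
  obtain ⟨e, -⟩ := exists_iso_of_gen hU _ (fun y => (hs y).pow n) _
    (fun y => ((hs y).pull f).res (hle (U y))) fun i j r hr => by
      obtain ⟨a, ha⟩ := (hs j).exists_coeff inf_le_right (res L (inf_le_left : U i ⊓ U j ≤ U i) (s i))
      have hr' : r = a ^ n := ((hs j).pow n).smul_inj inf_le_right (hr.symm.trans (by
        rw [res_powSec, res_powSec, ha, powSec_smul]))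
      have h := congrArg (fun m => res ((Scheme.Modules.pullback f).obj L) (hle (U i ⊓ U j)) (pullSec f L m)) ha
      simp only [pullSec_smul, res_smul, ← res_pullSec, res_res] at h
      rw [res_res, res_res, hr', ← hf, h]
      rfl
  exact ⟨e⟩

end Groth.Abvar.Dual.FrobPull
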