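import Groth.Agent.Abvar.Dual.EqOfPhi
import Groth.Agent.Abvar.Cube.AnyBase

/-!
# The closed locus of triviality of a rigidified class
-/

set_option autoImplicit false

universe u

open CategoryTheory Limits MonoidalCategory CartesianMonoidalCategory AlgebraicGeometry
open TopologicalSpace
open Groth.PicAux (Gen Basis')

namespace Groth.Abvar.Dual.TrivLocus

open Groth.Abvar.PicCalc Groth.Abvar.Seesaw Groth.Abvar.Dual Groth.PicFreeLocus

variable {P B : Scheme.{u}} {π : P ⟶ B}

/-- Bases over the base of an invertible module are generators. -/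
theorem exists_gen_of_hasPushBasis [Surjective π] {L : P.Modules} (hL : PicF.IsInvertible L)
    (h : HasPushBasis π L) : ∀ y : B, ∃ V : B.Opens, y ∈ V ∧ ∃ s : Γ(L, π ⁻¹ᵁ V), Gen L _ s := by
  intro y
  obtain ⟨V, n, s, hy, hs⟩ := h y
  obtain ⟨z, hz⟩ := π.surjective y
  obtain ⟨W, s', -, hzW, hs'⟩ := PicAux.exists_gen_cover hL
  have hzV : z ∈ π ⁻¹ᵁ V := show π z ∈ V from hz ▸ hy
  obtain rfl : n = 1 := Groth.CohBase.rank_eq_of_basis' (U := π ⁻¹ᵁ V ⊓ W z) (x := z) ⟨hzV, hzW z⟩
    (hs.res' inf_le_left) ((EqOfPhi.basis'_of_gen (hs' z)).res' inf_le_right)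
  exact ⟨V, hy, _, EqOfPhi.gen_of_basis' hs⟩

variable [IsProper π] [Flat π] [LocallyOfFinitePresentation π] [GeometricallyIntegral π]

/-- A class trivial along a section is trivial after base change iff it has bases over the base. -/
theorem trivCond_iff_pull {L : P.Modules} (hL : PicF.IsInvertible L) (σ : B ⟶ P) (hσ : σ ≫ π = 𝟙 B)
    (hc : pull σ (cls hL) = 1) {W : Scheme.{u}} (u : W ⟶ B) :
    TrivCond π L W u ↔ pull (pullback.fst π u) (cls hL) = 1 := by
  rw [pull_cls _ hL, ← nonempty_iso_structure_iff]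
  let π' := pullback.snd π u
  have : IsProper π' := inferInstanceAs (IsProper (pullback.snd _ _))
  have : Flat π' := inferInstanceAs (Flat (pullback.snd _ _))
  have : LocallyOfFinitePresentation π' := inferInstanceAs (LocallyOfFinitePresentation (pullback.snd _ _))
  have : GeometricallyIntegral π' := inferInstanceAs (GeometricallyIntegral (pullback.snd _ _))
  have := geometricallyConnected_of_integral π'
  let σ' : W ⟶ pullback π u := pullback.lift (u ≫ σ) (𝟙 W) (by rw [Category.assoc, hσ]; simp)
  have hσ' : σ' ≫ π' = 𝟙 W := pullback.lift_snd _ _ _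
  have : Surjective π' := ⟨fun w => ⟨σ' w, by rw [← Scheme.Hom.comp_apply, hσ']; rfl⟩⟩
  have hL' := PicLoc.isInvertible_pullback (pullback.fst π u) hL
  constructor
  · intro h
    refine trivial_of_local π' (e := σ') hσ' (fun V => GrpschAbsch.H0General.app_bijective π' V)
      (exists_gen_of_hasPushBasis hL' h) ?_
    rw [nonempty_iso_structure_iff (PicLoc.isInvertible_pullback _ hL'), ← pull_cls _ hL', ← pull_cls _ hL,
      ← pull_comp, pullback.lift_fst, pull_comp, hc, map_one]
  · intro h
    obtain ⟨s, hs⟩ := PicAux.nonempty_iso_structure_iff.1 h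
    exact fun t => ⟨⊤, 1, _, trivial, EqOfPhi.basis'_of_gen hs⟩

/-- The closed subscheme over which a class trivial along a section is trivial. -/
theorem exists_closed_trivLocus (σ : B ⟶ P) (hσ : σ ≫ π = 𝟙 B) (c : PicLoc.PicSet P) (hc : pull σ c = 1) :
    ∃ (Z : Scheme.{u}) (i : Z ⟶ B), IsClosedImmersion i ∧
      ∀ (W : Scheme.{u}) (u : W ⟶ B) (P' : Scheme.{u}) (g : P' ⟶ P) (q : P' ⟶ W), IsPullback g q π u →
        ((∃ h : W ⟶ Z, h ≫ i = u) ↔ pull g c = 1) := by
  obtain ⟨L, hL, rfl⟩ := PicGrp.exists_eq_cls c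
  have := geometricallyConnected_of_integral π
  obtain ⟨Z, i, hi, -, -, hu⟩ := exists_locus π (EqOfPhi.isFinLocFree_of_isInvertible hL)
  have key : ∀ (W : Scheme.{u}) (u : W ⟶ B) (P' : Scheme.{u}) (g : P' ⟶ P) (q : P' ⟶ W),
      IsPullback g q π u → ((∃ h : W ⟶ Z, h ≫ i = u) ↔ pull g (cls hL) = 1) := by
    intro W u P' g q sq
    rw [hu, trivCond_iff_pull hL σ hσ hc u]
    constructor
    · intro h
      rw [← sq.isoPullback_hom_fst, pull_comp, h, map_one]
    · intro h
      rw [← sq.isoPullback_inv_fst, pull_comp, h, map_one]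
  refine ⟨Z, i, IsClosedImmersion.of_isPreimmersion _ ?_, key⟩
  suffices h : Set.range i = {y | FibTriv π L y} from h ▸ Groth.Abvar.Cube.isClosed_fibTriv_any π hL
  ext y
  show y ∈ Set.range i ↔ FibTriv π L y
  rw [fibTriv_iff _ hL, ← key _ (B.fromSpecResidueField y) _ (π.fiberι y) _ (IsPullback.of_hasPullback _ _)]
  constructor
  · rintro ⟨z, rfl⟩
    let q := pullback.snd i (B.fromSpecResidueField (i z))
    have : Subsingleton (Spec (B.residueField (i z))) :=
      inferInstanceAs (Subsingleton (PrimeSpectrum (B.residueField (i z))))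
    have : IsImmersion q := MorphismProperty.pullback_snd (P := @IsImmersion) _ _ hi
    have : Surjective q := ⟨fun w => by
      obtain ⟨v, -, hv⟩ := Scheme.Pullback.exists_preimage_pullback (f := i) (g := B.fromSpecResidueField (i z))
        z (IsLocalRing.closedPoint (B.residueField (i z))) (B.fromSpecResidueField_apply _ _).symm
      exact ⟨v, Subsingleton.elim _ _⟩⟩
    have : IsClosedImmersion q := IsClosedImmersion.of_isPreimmersion _ (by
      rw [q.surjective.range_eq]; exact isClosed_univ)
    have : IsIso q := isIso_of_isClosedImmersion_of_surjective q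
    exact ⟨inv q ≫ pullback.fst _ _, by
      rw [Category.assoc, pullback.condition, IsIso.inv_hom_id_assoc]⟩
  · rintro ⟨h, hh⟩
    refine ⟨h (IsLocalRing.closedPoint (B.residueField y)), ?_⟩
    rw [← Scheme.Hom.comp_apply, hh]
    exact B.fromSpecResidueField_apply y _

end Groth.Abvar.Dual.TrivLocus
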