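import Groth.Agent.Abvar.Dual.Primitive
import Groth.Prelude.Def_AbDual
import Mathlib.FieldTheory.IsAlgClosed.AlgebraicClosure

/-!
# Classes in `Pic⁰` are primitive

`IsAlgEquivZero` is stable under inverse image, and a class which is algebraically equivalent to
zero on all geometric fibres is primitive.
-/

universe u

open CategoryTheory Limits MonoidalCategory CartesianMonoidalCategory MonObj GrpObj AlgebraicGeometry
  TopologicalSpace

namespace Groth.Abvar.Dual

open PicCalc

/-- Algebraic equivalence to zero is stable under inverse image along morphisms over the field. -/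
theorem isAlgEquivZero_pullback {k : Type u} [Field k] {X X' : Scheme.{u}}
    (p : X ⟶ Spec (CommRingCat.of k)) (p' : X' ⟶ Spec (CommRingCat.of k)) (f : X' ⟶ X)
    (hf : f ≫ p = p') {L : X.Modules} (h : @Pic13.IsAlgEquivZero k _ X ⟨p⟩ L) :
    @Pic13.IsAlgEquivZero k _ X' ⟨p'⟩ ((Scheme.Modules.pullback f).obj L) := by
  obtain ⟨T, q, hc, hlft, hqc, M, hM, t, t₀, ht, ht₀, ⟨e⟩, ⟨e₀⟩⟩ := h
  let F : pullback p' q ⟶ pullback p q :=
    pullback.map p' q p q f (𝟙 T) (𝟙 _) (by rw [Category.comp_id, hf]) (by simp)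
  have key : ∀ (s : Spec (CommRingCat.of k) ⟶ T) (hs : s ≫ q = 𝟙 _),
      @Pic13.sliceAt k _ X' ⟨p'⟩ T q s hs ≫ F = f ≫ @Pic13.sliceAt k _ X ⟨p⟩ T q s hs := by
    intro s hs
    show pullback.lift (𝟙 X') (p' ≫ s) (by simp [hs]) ≫ F =
      f ≫ pullback.lift (𝟙 X) (p ≫ s) (by simp [hs])
    refine pullback.hom_ext ?_ ?_
    · simp only [F, Category.assoc]
      erw [pullback.lift_fst, pullback.lift_fst_assoc, pullback.lift_fst]
      rw [Category.id_comp, Category.comp_id]
    · simp only [F, Category.assoc]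
      erw [pullback.lift_snd, pullback.lift_snd_assoc, pullback.lift_snd]
      rw [Category.comp_id, reassoc_of% hf]
  refine ⟨T, q, hc, hlft, hqc, (Scheme.Modules.pullback F).obj M,
    PicLoc.isInvertible_pullback F hM, t, t₀, ht, ht₀,
    ⟨(Scheme.Modules.pullbackComp _ F).app M ≪≫ (Scheme.Modules.pullbackCongr (key t ht)).app M ≪≫
      ((Scheme.Modules.pullbackComp f _).app M).symm ≪≫ (Scheme.Modules.pullback f).mapIso e⟩, ?_⟩
  obtain ⟨j⟩ := PicAux.pullback_structure_iso f
  exact ⟨(Scheme.Modules.pullbackComp _ F).app M ≪≫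
    (Scheme.Modules.pullbackCongr (key t₀ ht₀)).app M ≪≫
      ((Scheme.Modules.pullbackComp f _).app M).symm ≪≫ (Scheme.Modules.pullback f).mapIso e₀ ≪≫ j⟩

/-- On an abelian variety, a class algebraically equivalent to zero is primitive. -/
theorem dfct_eq_one_of_isAlgEquivZero {k : Type u} [Field k] (A : Over (Spec (CommRingCat.of k)))
    [GrpObj A] [IsProper A.hom] [Flat A.hom] [LocallyOfFinitePresentation A.hom]
    [GeometricallyIntegral A.hom] {L : A.left.Modules} (hL : PicF.IsInvertible L)
    (h : @Pic13.IsAlgEquivZero k _ A.left ⟨A.hom⟩ L) :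
    dfct (cls hL) (fst A A) (snd A A) = 1 := by
  obtain ⟨T, q, hc, -, -, M, hM, t, t₀, ht, ht₀, ⟨e⟩, ⟨e₀⟩⟩ := h
  have h1 : pull (sliceMap q ht A) (cls hM) = cls hL :=
    (pull_cls (sliceMap q ht A) hM).trans ((nonempty_iso_iff _ hL).1 ⟨e⟩)
  rw [← h1]
  exact dfct_eq_one_of_family q (cls hM) ht ht₀
    ((pull_cls (sliceMap q ht₀ A) hM).trans ((nonempty_iso_structure_iff _).1 ⟨e₀⟩))

variable {S : Scheme.{u}} {A : Over S} [GrpObj A] [IsProper A.hom] [Flat A.hom]
  [LocallyOfFinitePresentation A.hom] [GeometricallyIntegral A.hom] {B : Scheme.{u}} (b : B ⟶ S)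
  {L : ((Over.pullback b).obj A).left.Modules} (hL : PicF.IsInvertible L)
  (h : ∀ y : B, AbDual.IsAlgTrivialAt ((Over.pullback b).obj A).hom L y)

include h in
/-- A class algebraically equivalent to zero on all geometric fibres has trivial defect. -/
theorem relDfct_eq_one : relDfct A b (cls hL) = 1 := by
  refine (relDfct_clopen A b (cls hL)).2 fun y => ?_
  let Ω := AlgebraicClosure (B.residueField y)
  let σ : Spec (CommRingCat.of Ω) ⟶ B :=
    Spec.map (CommRingCat.ofHom (algebraMap (B.residueField y) Ω)) ≫ B.fromSpecResidueField y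
  have hy : σ (IsLocalRing.closedPoint Ω) = y := by
    rw [Scheme.Hom.comp_apply, Scheme.fromSpecResidueField_apply]
  have hr : Set.range σ.base = {y} := by
    refine Set.eq_singleton_iff_unique_mem.2 ⟨⟨_, hy⟩, ?_⟩
    rintro _ ⟨z, rfl⟩
    rw [Subsingleton.elim z (IsLocalRing.closedPoint Ω)]
    exact hy
  let A' := (Over.pullback (σ ≫ b)).obj A
  let : GrpObj A' := Functor.grpObjObj
  have : IsProper A'.hom := inferInstanceAs (IsProper (pullback.snd _ _))
  have : Flat A'.hom := inferInstanceAs (Flat (pullback.snd _ _))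
  have : LocallyOfFinitePresentation A'.hom :=
    inferInstanceAs (LocallyOfFinitePresentation (pullback.snd _ _))
  have : GeometricallyIntegral A'.hom := inferInstanceAs (GeometricallyIntegral (pullback.snd _ _))
  let r : A'.left ⟶ pullback ((Over.pullback b).obj A).hom σ :=
    pullback.lift (bcComp b σ A) A'.hom (isPullback_bcComp b σ A).w
  have h1 := isAlgEquivZero_pullback (pullback.snd ((Over.pullback b).obj A).hom σ) A'.hom r
    (pullback.lift_snd _ _ _) (h y Ω σ hr)
  have hi := PicLoc.isInvertible_pullback r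
    (PicLoc.isInvertible_pullback (pullback.fst ((Over.pullback b).obj A).hom σ) hL)
  have h2 := dfct_eq_one_of_isAlgEquivZero A' hi h1
  rw [← pull_cls r (PicLoc.isInvertible_pullback _ hL), ← pull_cls _ hL, ← pull_comp,
    show r ≫ pullback.fst _ _ = bcComp b σ A from pullback.lift_fst _ _ _] at h2
  rw [← hy]
  refine relDfct_fibre A b (cls hL) σ (isPullback_bcComp b σ (A ⊗ A)) ?_
  rw [pull_relDfct, relDfct_eq, h2, map_one]

include h in
/-- A class algebraically equivalent to zero on all geometric fibres is additive at points. -/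
theorem pull_mul_points {X : Over S} (f g : X ⟶ A) :
    opull ((Over.pullback b).map (f * g)) (cls hL) *
        opull ((Over.pullback b).map (1 : X ⟶ A)) (cls hL) =
      opull ((Over.pullback b).map f) (cls hL) * opull ((Over.pullback b).map g) (cls hL) := by
  have e := congrArg (opull ((Over.pullback b).map (lift f g))) (relDfct_eq_one b hL h)
  rw [relDfct, map_one, map_div, div_eq_one] at e
  simp only [map_mul, ← opull_comp, ← Functor.map_comp, MonObj.comp_mul, MonObj.comp_one, lift_fst,
    lift_snd] at e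
  exact e

omit [GrpObj A] [IsProper A.hom] [Flat A.hom] [LocallyOfFinitePresentation A.hom]
  [GeometricallyIntegral A.hom] in
/-- `AbDual.bcMap` is the base change functor. -/
theorem bcMap_eq {X : Over S} (f : X ⟶ A) (T : Over S) :
    AbDual.bcMap f T = ((Over.pullback T.hom).map f).left := by
  refine pullback.hom_ext ?_ ?_
  · exact (pullback.lift_fst _ _ _).trans (pullback.lift_fst _ _ _).symm
  · exact ((pullback.lift_snd _ _ _).trans (Category.comp_id _)).trans
      (pullback.lift_snd _ _ _).symm

end Groth.Abvar.Dual
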