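import Groth.Agent.Abvar.Dual.PicZero

/-!
# Classes trivial along a section lie in `Pic⁰` over a connected family
-/

set_option autoImplicit false

universe u

open CategoryTheory Limits MonoidalCategory CartesianMonoidalCategory MonObj GrpObj AlgebraicGeometry

namespace Groth.Abvar.Dual.Axis

open Groth.Abvar.PicCalc Groth.Abvar.Dual

variable {S : Scheme.{u}} {A X : Over S} [IsProper X.hom] [GeometricallyConnected X.hom]

/-- A class on `A ×_S X` trivial on `A × e` is in `Pic⁰` over `X`. -/
theorem p0_of_axis (e : 𝟙_ (Over S) ⟶ X) {D : PicLoc.PicSet ((Over.pullback X.hom).obj A).left}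
    (h : pull (lift (𝟙 A) (toUnit A ≫ e) : A ⟶ A ⊗ X).left D = 1) : P0 A X D := by
  obtain ⟨L, hL, rfl⟩ := PicGrp.exists_eq_cls D
  rw [p0_iff]
  intro x Ω _ _ σ hσ
  let π := ((Over.pullback X.hom).obj A).hom
  let s0 : Spec (CommRingCat.of Ω) ⟶ S := σ ≫ X.hom
  let q : pullback X.hom s0 ⟶ Spec (CommRingCat.of Ω) := pullback.snd _ _
  have : GeometricallyConnected q := MorphismProperty.pullback_snd (P := @GeometricallyConnected) _ _ ‹_›
  have : IsProper q := MorphismProperty.pullback_snd (P := @IsProper) _ _ ‹_›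
  have hc : ConnectedSpace ↥(pullback X.hom s0) :=
    GeometricallyConnected.geometrically_connectedSpace (f := q) (𝟙 _) (𝟙 _) q
      (IsPullback.of_vert_isIso ⟨by simp⟩).flip
  let p : pullback π σ ⟶ Spec (CommRingCat.of Ω) := pullback.snd _ _
  have hp : p ≫ s0 = pullback.fst π σ ≫ pullback.fst A.hom X.hom ≫ A.hom := by
    refine ((Category.assoc _ _ _).symm.trans (congrArg (· ≫ X.hom) pullback.condition.symm)).trans ?_
    exact (Category.assoc _ _ _).trans (congrArg (pullback.fst π σ ≫ ·) pullback.condition.symm)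
  let G : pullback p q ⟶ pullback A.hom X.hom :=
    pullback.lift (pullback.fst p q ≫ pullback.fst π σ ≫ pullback.fst A.hom X.hom)
      (pullback.snd p q ≫ pullback.fst X.hom s0) (by
        simp only [Category.assoc]
        rw [← hp, ← Category.assoc (pullback.fst p q) p s0, pullback.condition, Category.assoc]
        exact congrArg (pullback.snd p q ≫ ·) pullback.condition.symm)
  let t : Spec (CommRingCat.of Ω) ⟶ pullback X.hom s0 := pullback.lift σ (𝟙 _) (Category.id_comp _).symm
  let t₀ : Spec (CommRingCat.of Ω) ⟶ pullback X.hom s0 := pullback.lift (s0 ≫ e.left) (𝟙 _) (by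
    rw [Category.assoc, Over.w e, Category.id_comp]; exact Category.comp_id _)
  have ht : t ≫ q = 𝟙 _ := pullback.lift_snd _ _ _
  have ht₀ : t₀ ≫ q = 𝟙 _ := pullback.lift_snd _ _ _
  refine ⟨pullback X.hom s0, q, hc, inferInstance, inferInstance, (Scheme.Modules.pullback G).obj L,
    PicLoc.isInvertible_pullback G hL, t, t₀, ht, ht₀, ?_, ?_⟩
  · have hG : @Pic13.sliceAt Ω _ (pullback π σ) ⟨p⟩ _ q t ht ≫ G = pullback.fst π σ := by
      apply pullback.hom_ext
      · erw [Category.assoc, pullback.lift_fst, pullback.lift_fst_assoc, Category.id_comp]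
      · erw [Category.assoc, pullback.lift_snd, pullback.lift_snd_assoc]
        rw [Category.assoc, pullback.lift_fst]
        exact pullback.condition.symm
    exact ⟨(Scheme.Modules.pullbackComp _ G).app L ≪≫ (Scheme.Modules.pullbackCongr hG).app L⟩
  · let j := (lift (𝟙 A) (toUnit A ≫ e) : A ⟶ A ⊗ X).left
    have hj1 : j ≫ pullback.fst A.hom X.hom = 𝟙 A.left := congrArg Over.Hom.left (lift_fst (𝟙 A) (toUnit A ≫ e))
    have hj2 : j ≫ pullback.snd A.hom X.hom = A.hom ≫ e.left :=
      (congrArg Over.Hom.left (lift_snd (𝟙 A) (toUnit A ≫ e))).trans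
        (by rw [Over.comp_left, Over.toUnit_left])
    have hG : @Pic13.sliceAt Ω _ (pullback π σ) ⟨p⟩ _ q t₀ ht₀ ≫ G =
        (pullback.fst π σ ≫ pullback.fst A.hom X.hom) ≫ j := by
      apply pullback.hom_ext
      · erw [Category.assoc, pullback.lift_fst, pullback.lift_fst_assoc, Category.id_comp]
        rw [Category.assoc (pullback.fst π σ ≫ pullback.fst A.hom X.hom), hj1]
        exact (Category.comp_id _).symm
      · erw [Category.assoc, pullback.lift_snd, pullback.lift_snd_assoc]
        rw [Category.assoc, pullback.lift_fst, Category.assoc (pullback.fst π σ ≫ pullback.fst A.hom X.hom), hj2]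
        exact ((Category.assoc _ _ _).symm.trans (congrArg (· ≫ e.left) (hp.trans (Category.assoc _ _ _).symm))).trans
          (Category.assoc _ _ _)
    have hi := (nonempty_iso_structure_iff (PicLoc.isInvertible_pullback
      (@Pic13.sliceAt Ω _ (pullback π σ) ⟨p⟩ _ q t₀ ht₀) (PicLoc.isInvertible_pullback G hL))).2
    refine hi (((pull_cls _ _).symm.trans ((congrArg (pull _) (pull_cls G hL).symm).trans
      (pull_comp _ G (cls hL)).symm)).trans ?_)
    refine (congrArg (pull · (cls hL)) hG).trans ((pull_comp _ _ _).trans ?_)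
    exact (congrArg (pull _) h).trans (map_one _)

end Groth.Abvar.Dual.Axis
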