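import Groth.Agent.Abvar.Dual.PicZero
import Groth.Agent.PicFreeLocus.Main
import Mathlib.AlgebraicGeometry.Morphisms.FlatDescent

/-!
# Rigidified classes in `Pic⁰` are determined by their point, over any base
-/

set_option autoImplicit false

universe u

open CategoryTheory Limits MonoidalCategory CartesianMonoidalCategory MonObj GrpObj AlgebraicGeometry
open TopologicalSpace
open Groth.PicAux (Gen Basis' res)

namespace Groth.Abvar.Dual.EqOfPhi

open Groth.Abvar.PicCalc Groth.Abvar.Seesaw Groth.Abvar.Dual Groth.PicFreeLocus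

theorem basis'_of_gen {X : Scheme.{u}} {M : X.Modules} {U : X.Opens} {s : Γ(M, U)} (hs : Gen M U s) :
    Basis' M U fun _ : Fin 1 => s := fun V hV => by
  have h := (hs V hV).comp (Equiv.funUnique (Fin 1) Γ(X, V)).bijective
  convert h using 1
  funext r
  simp

theorem gen_of_basis' {X : Scheme.{u}} {M : X.Modules} {U : X.Opens} {s : Fin 1 → Γ(M, U)}
    (hs : Basis' M U s) : Gen M U (s 0) := fun V hV => by
  have h := (hs V hV).comp (Equiv.funUnique (Fin 1) Γ(X, V)).symm.bijective
  convert h using 1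
  funext r
  simp

theorem isFinLocFree_of_isInvertible {X : Scheme.{u}} {M : X.Modules} (hM : PicF.IsInvertible M) :
    FlatMod.IsFinLocFree M := by
  obtain ⟨U, s, hU, hxU, hs⟩ := PicAux.exists_gen_cover hM
  exact Groth.KTheory.LocFree.isFinLocFree_iff.2 fun x => ⟨U x, 1, _, hxU x, basis'_of_gen (hs x)⟩

/-- An invertible module which is fppf-locally on the base the inverse image of the structure module is
locally on the base trivial. -/
theorem exists_gen_of_fppf {P B : Scheme.{u}} (π : P ⟶ B) [IsProper π] [Flat π] [LocallyOfFinitePresentation π]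
    [GeometricallyReduced π] [GeometricallyConnected π] [Surjective π] {L : P.Modules}
    (hL : PicF.IsInvertible L) (R : Presieve B) (hR : R ∈ Scheme.fppfPrecoverage B)
    (h : ∀ ⦃U : Scheme.{u}⦄ (v : U ⟶ B), R v →
      Nonempty ((Scheme.Modules.pullback (pullback.fst π v)).obj L ≅ Coh.structureModule _)) :
    ∀ y : B, ∃ V : B.Opens, y ∈ V ∧ ∃ s : Γ(L, π ⁻¹ᵁ V), Gen L _ s := by
  obtain ⟨Z, jZ, _, _, _, hu⟩ := exists_locus π (isFinLocFree_of_isInvertible hL)
  have hpt : ∀ y : B, ∃ (U : Scheme.{u}) (v : U ⟶ B), R v ∧ y ∈ Set.range v := fun y => by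
    obtain ⟨_, _, @⟨U, v, hv⟩, w, hw⟩ := (Types.mem_jointlySurjectivePrecoverage_iff.1 hR.1) y
    exact ⟨U, v, hv, w, hw⟩
  choose U v hv hyv using hpt
  let u' : ∐ U ⟶ B := Sigma.desc v
  have hflat : ∀ y, Flat (v y) ∧ LocallyOfFinitePresentation (v y) := fun y => hR.2 (hv y)
  have : Flat u' := IsZariskiLocalAtSource.sigmaDesc fun y => (hflat y).1
  have : LocallyOfFinitePresentation u' := IsZariskiLocalAtSource.sigmaDesc fun y => (hflat y).2
  have : Surjective u' := ⟨fun y => by
    obtain ⟨w, hw⟩ := hyv y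
    exact ⟨(Sigma.ι U y) w, by rw [← Scheme.Hom.comp_apply, colimit.ι_desc]; exact hw⟩⟩
  have hu' : TrivCond π L _ u' := by
    refine TrivCond.of_cover (sigmaOpenCover U) fun y => ?_
    show TrivCond π L _ (Sigma.ι U y ≫ Sigma.desc v)
    rw [colimit.ι_desc]
    obtain ⟨s, hs⟩ := PicAux.nonempty_iso_structure_iff.1 (h (v y) (hv y))
    exact fun t => ⟨⊤, 1, _, trivial, basis'_of_gen hs⟩
  obtain ⟨k, hk⟩ := (hu _ u').2 hu'
  have hiso : IsIso jZ := by
    let l := pullback.lift k (𝟙 _) (by rw [hk, Category.id_comp])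
    have : IsSplitEpi (pullback.snd jZ u') := IsSplitEpi.mk' ⟨l, pullback.lift_snd _ _ _⟩
    have h1 : IsIso (pullback.snd jZ u') := isIso_of_mono_of_isSplitEpi _
    exact MorphismProperty.of_pullback_snd_of_descendsAlong
      (P := MorphismProperty.isomorphisms Scheme) (Q := @Surjective ⊓ @Flat ⊓ @LocallyOfFinitePresentation)
      ⟨⟨inferInstance, inferInstance⟩, inferInstance⟩ h1
  have hid : TrivCond π L B (𝟙 B) := (hu B (𝟙 B)).1 ⟨inv jZ, IsIso.inv_hom_id jZ⟩
  intro y
  have sq : IsPullback (𝟙 P) π π (𝟙 B) := IsPullback.of_horiz_isIso ⟨by simp⟩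
  have hid' := HasPushBasis.of_iso ((Scheme.Modules.pullbackId P).app L) ((trivCond_iff sq).1 hid)
  obtain ⟨V, n, s, hy, hs⟩ := hid' y
  obtain ⟨z, hz⟩ := π.surjective y
  obtain ⟨W, s', -, hzW, hs'⟩ := PicAux.exists_gen_cover hL
  have hzV : z ∈ π ⁻¹ᵁ V := show π z ∈ V from hz ▸ hy
  obtain rfl : n = 1 := Groth.CohBase.rank_eq_of_basis' (U := π ⁻¹ᵁ V ⊓ W z) (x := z) ⟨hzV, hzW z⟩
    (hs.res' inf_le_left) ((basis'_of_gen (hs' z)).res' inf_le_right)
  exact ⟨V, hy, _, gen_of_basis' hs⟩

section main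

variable {S : Scheme.{u}} {A At : Over S} [GrpObj A] [IsProper A.hom] [Flat A.hom]
  [LocallyOfFinitePresentation A.hom] [GeometricallyIntegral A.hom] [GrpObj At]
  {φ : ∀ T : Over S, PicF.Cl (PicF.XT A.hom T) → (T ⟶ At)}
  (hφ : AbDual.IsDualAV Scheme.fppfPrecoverage A At φ) {T : Over S}

include hφ in
/-- A rigidified class in `Pic⁰` is determined by its point of the dual. -/
theorem eq_of_phi_eq {c d : PicLoc.PicSet ((Over.pullback T.hom).obj A).left} (hc : P0 A T c)
    (hd : P0 A T d) (hcr : pull (PicF.secT A.hom η[A].left (Over.w η[A]) T) c = 1)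
    (hdr : pull (PicF.secT A.hom η[A].left (Over.w η[A]) T) d = 1) (h : φ T c.1 = φ T d.1) :
    c = d := by
  obtain ⟨R, hR, hR'⟩ := hφ.relPic.locallyInjective T c.1 d.1 hc hd h
  obtain ⟨L, hL, e⟩ := PicGrp.exists_eq_cls (c / d)
  let π := ((Over.pullback T.hom).obj A).hom
  have : IsProper π := inferInstanceAs (IsProper (pullback.snd _ _))
  have : Flat π := inferInstanceAs (Flat (pullback.snd _ _))
  have : LocallyOfFinitePresentation π :=
    inferInstanceAs (LocallyOfFinitePresentation (pullback.snd _ _))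
  have : GeometricallyIntegral π := inferInstanceAs (GeometricallyIntegral (pullback.snd _ _))
  have := geometricallyConnected_of_integral π
  have : Surjective π := ⟨fun t => ⟨PicF.secT A.hom η[A].left (Over.w η[A]) T t,
    by rw [← Scheme.Hom.comp_apply, show PicF.secT A.hom η[A].left (Over.w η[A]) T ≫ π = 𝟙 _ from pullback.lift_snd _ _ _]; rfl⟩⟩
  have hloc := exists_gen_of_fppf π hL R hR fun U v hv => by
    let g := AbDual.ovrHom T v
    have sq : IsPullback (PicF.XTmap A.hom g) (pullback.snd A.hom (AbDual.ovr T v).hom) π v :=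
      IsPullback.of_right (by
        rw [show PicF.XTmap A.hom g ≫ pullback.fst A.hom T.hom =
          pullback.fst A.hom (AbDual.ovr T v).hom from
          (pullback.lift_fst _ _ _).trans (Category.comp_id _)]
        exact IsPullback.of_hasPullback A.hom (AbDual.ovr T v).hom)
        (pullback.lift_snd _ _ _) (IsPullback.of_hasPullback A.hom T.hom)
    rw [nonempty_iso_structure_iff (PicLoc.isInvertible_pullback _ hL), ← pull_cls _ hL,
      show pullback.fst π v = sq.isoPullback.inv ≫ PicF.XTmap A.hom g from sq.isoPullback_inv_fst.symm,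
      pull_comp]
    have e' : pull (PicF.XTmap A.hom g) c = pull (PicF.XTmap A.hom g) d := Subtype.ext (hR' v hv)
    rw [show cls hL = c / d from e.symm, map_div, e', div_self', map_one]
  have := trivial_of_local π (e := PicF.secT A.hom η[A].left (Over.w η[A]) T)
    (pullback.lift_snd _ _ _) (fun V => GrpschAbsch.H0General.app_bijective π V) hloc (by
      rw [nonempty_iso_structure_iff (PicLoc.isInvertible_pullback _ hL), ← pull_cls _ hL,
        show cls hL = c / d from e.symm, map_div, hcr, hdr, div_self'])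
  rw [nonempty_iso_structure_iff hL, show cls hL = c / d from e.symm] at this
  exact div_eq_one.1 this

end main

end Groth.Abvar.Dual.EqOfPhi
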