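import Groth.Agent.Abvar.Dual.LamBC

/-!
# Graph classes on a base change
-/

set_option autoImplicit false

universe u

open CategoryTheory Limits MonoidalCategory CartesianMonoidalCategory MonObj GrpObj AlgebraicGeometry

namespace Groth.Abvar.Dual.GraphBC

open Groth.Abvar.PicCalc Groth.Abvar.Dual Groth.Abvar.Dual.BaseChange

variable {S S' S'' : Scheme.{u}} (t : S' ⟶ S) {A At : Over S}

/-- The inverse image of a class on `A ×_S At` along the graph of a morphism of the base changes. -/
noncomputable def gCls (x : PicLoc.PicSet ((Over.pullback At.hom).obj A).left) (mu : Red.bc t A ⟶ Red.bc t At) :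
    PicLoc.PicSet (Red.bc t A).left :=
  pull (pullback.lift (pullback.fst A.hom t) (ofBC t mu).left
    (pullback.condition.trans (Over.w (ofBC t mu)).symm)) x

theorem gCls_eq (x : PicLoc.PicSet ((Over.pullback At.hom).obj A).left) (mu : Red.bc t A ⟶ Red.bc t At) :
    pull (pullback.lift (𝟙 (Red.bc t A).left) mu.left
        ((Category.id_comp (Red.bc t A).hom).trans (Over.w mu).symm))
      (pull ((AgPol.bcXTIso t A (Red.bc t At)).hom ≫
        PicF.XTmap A.hom (Over.homMk (pullback.fst At.hom t) pullback.condition)) x) = gCls t x mu := by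
  refine (pull_comp _ _ x).symm.trans (congrArg (pull · x) ?_)
  apply pullback.hom_ext
  · refine Eq.trans ?_ (pullback.lift_fst _ _ _).symm
    erw [Category.assoc, Category.assoc, pullback.lift_fst, Category.comp_id,
      pullbackLeftPullbackSndIso_hom_fst, pullback.lift_fst_assoc, Category.id_comp]
  · refine Eq.trans ?_ (pullback.lift_snd _ _ _).symm
    erw [Category.assoc, Category.assoc, pullback.lift_snd]
    rw [← Category.assoc (AgPol.bcXTIso t A (Red.bc t At)).hom]
    erw [bcXTIso_hom_snd, pullback.lift_snd_assoc]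
    rfl

variable [GrpObj A] [GrpObj At]

theorem toBC_one {Z : Over S} [GrpObj Z] (U : Over S') : toBC t U (1 : ovT t U ⟶ Z) = 1 := by
  have := toBC_mul t U (1 : ovT t U ⟶ Z) 1
  rw [_root_.mul_one] at this
  exact (mul_left_cancel ((_root_.mul_one _).trans this)).symm

theorem ofBC_pow (a : Red.bc t A ⟶ Red.bc t At) (j : ℕ) : ofBC t (a ^ j) = (ofBC t a) ^ j := by
  refine toBC_injective t ?_
  rw [toBC_ofBC]
  induction j with
  | zero => rw [pow_zero, pow_zero, toBC_one]
  | succ j ih => rw [pow_succ, pow_succ, toBC_mul, ← ih, toBC_ofBC]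

theorem gCls_rig {φ : AgPol.DualMap A At} {x : PicLoc.PicSet ((Over.pullback At.hom).obj A).left}
    (hx : AbDual.IsPoincareCl A At φ x.1) (mu : Red.bc t A ⟶ Red.bc t At)
    (hmu : η[Red.bc t A] ≫ mu = η[Red.bc t At]) : pull η[Red.bc t A].left (gCls t x mu) = 1 := by
  have hr : pull (PicF.secT A.hom η[A].left (Over.w η[A]) At) x = 1 := Subtype.ext hx.2.2
  refine (pull_comp _ _ x).symm.trans ?_
  refine (congrArg (pull · x) (?_ : _ = t ≫ η[At].left ≫ PicF.secT A.hom η[A].left (Over.w η[A]) At)).trans ?_
  · apply pullback.hom_ext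
    · rw [Category.assoc]
      erw [pullback.lift_fst, LamBC.unit_bc_fst, Category.assoc, Category.assoc, pullback.lift_fst]
      refine congrArg (t ≫ ·) ?_
      rw [← Category.assoc, Over.w]
      exact (Category.id_comp _).symm
    · refine (Category.assoc _ _ _).trans ((congrArg (_ ≫ ·) (pullback.lift_snd _ _ _)).trans ?_)
      refine ((Category.assoc _ _ _).symm.trans
        (congrArg (fun a : _ ⟶ Red.bc t At => a.left ≫ pullback.fst At.hom t) hmu)).trans ?_
      refine (LamBC.unit_bc_fst (A := At) t).trans ?_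
      refine Eq.trans ?_ (Category.assoc _ _ _).symm
      refine congrArg (t ≫ ·) (Eq.trans ?_ (Category.assoc _ _ _).symm)
      exact (Category.comp_id _).symm.trans (congrArg (η[At].left ≫ ·) (pullback.lift_snd _ _ _).symm)
  · rw [pull_comp, pull_comp, hr, map_one, map_one]

/-- Graph classes of powers are compatible with a change of base. -/
theorem pull_gCls_pow {t' : S'' ⟶ S} (m : (Red.bc t' A).left ⟶ (Red.bc t A).left)
    (hm : m ≫ pullback.fst A.hom t = pullback.fst A.hom t') (m' : ovT t' (Red.bc t' A) ⟶ ovT t (Red.bc t A))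
    (hm' : m'.left = m) (x : PicLoc.PicSet ((Over.pullback At.hom).obj A).left)
    {a : Red.bc t A ⟶ Red.bc t At} {b : Red.bc t' A ⟶ Red.bc t' At}
    (hab : ofBC t' b = m' ≫ ofBC t a) (j : ℕ) : gCls t' x (b ^ j) = pull m (gCls t x (a ^ j)) := by
  refine Eq.trans (congrArg (pull · x) ?_) (pull_comp _ _ x)
  apply pullback.hom_ext
  · refine (pullback.lift_fst _ _ _).trans (Eq.symm ?_)
    exact (Category.assoc _ _ _).trans ((congrArg (m ≫ ·) (pullback.lift_fst _ _ _)).trans hm)
  · refine (pullback.lift_snd _ _ _).trans (Eq.symm ?_)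
    refine (Category.assoc _ _ _).trans ((congrArg (m ≫ ·) (pullback.lift_snd _ _ _)).trans ?_)
    rw [ofBC_pow, ofBC_pow, hab, ← MonObj.comp_pow, Over.comp_left, hm']

end Groth.Abvar.Dual.GraphBC
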