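import Groth.Agent.Abvar.Dual.Axis
import Groth.Agent.Abvar.Dual.EqOfPhi
import Groth.Prelude.Def_AgPol

/-!
# Homomorphisms to the dual attached to invertible modules on the geometric fibres are symmetric
-/

set_option autoImplicit false

universe u

open CategoryTheory Limits MonoidalCategory CartesianMonoidalCategory MonObj GrpObj AlgebraicGeometry
open TopologicalSpace

namespace Groth.Abvar.Dual.LamSymm

open Groth.Abvar.PicCalc Groth.Abvar.Seesaw Groth.Abvar.Dual

section basics

variable {S : Scheme.{u}} {A : Over S} [GrpObj A]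

/-- The exchange of factors. -/
noncomputable abbrev swp (A : Over S) : A ⊗ A ⟶ A ⊗ A := lift (snd A A) (fst A A)

/-- The Mumford class. -/
noncomputable def lamCls (l : PicLoc.PicSet A.left) : PicLoc.PicSet (A ⊗ A).left :=
  opull μ[A] l * (opull (fst A A) l * opull (snd A A) l)⁻¹

theorem swp_lamCls [IsCommMonObj A] (l : PicLoc.PicSet A.left) : opull (swp A) (lamCls l) = lamCls l := by
  have h3 : swp A ≫ μ[A] = μ[A] := by
    show snd A A * fst A A = _
    rw [mul_comm, Hom.mul_def, lift_fst_snd, Category.id_comp]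
  rw [lamCls, map_mul, map_inv, map_mul, ← opull_comp, ← opull_comp, ← opull_comp, h3, lift_fst, lift_snd,
    mul_comm (opull (snd A A) l)]

/-- The Mumford condition on classes. -/
theorem isLambdaSheaf_iff {L : A.left.Modules} (hL : PicF.IsInvertible L) {N : (A ⊗ A).left.Modules}
    (hN : PicF.IsInvertible N) :
    AgPol.IsLambdaSheaf μ[A].left (fst A A).left (snd A A).left L N ↔ cls hN = lamCls (cls hL) := by
  have h1 := PicLoc.isInvertible_pullback (fst A A).left hL
  have h2 := PicLoc.isInvertible_pullback (snd A A).left hL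
  have h3 := PicLoc.isInvertible_pullback μ[A].left hL
  rw [AgPol.IsLambdaSheaf, nonempty_iso_iff (isInvertible_tensorMod (isInvertible_tensorMod hN h1) h2) h3,
    cls_tensorMod (isInvertible_tensorMod hN h1) h2, cls_tensorMod hN h1, ← pull_cls _ hL, ← pull_cls _ hL,
    ← pull_cls _ hL, lamCls, eq_mul_inv_iff_mul_eq, _root_.mul_assoc]

theorem secT_eq : PicF.secT A.hom η[A].left (Over.w η[A]) A = (lift (1 : A ⟶ A) (𝟙 A)).left := by
  refine pullback.hom_ext ?_ ?_
  · refine (pullback.lift_fst _ _ _).trans ?_
    exact ((congrArg Over.Hom.left (lift_fst (1 : A ⟶ A) (𝟙 A))).trans (by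
      rw [Hom.one_def, Over.comp_left, Over.toUnit_left])).symm
  · refine (pullback.lift_snd _ _ _).trans ?_
    exact (congrArg Over.Hom.left (lift_snd (1 : A ⟶ A) (𝟙 A))).symm

end basics

section graph

variable {S : Scheme.{u}} {A At : Over S} [GrpObj A] [IsProper A.hom] [Flat A.hom]
  [LocallyOfFinitePresentation A.hom] [GeometricallyIntegral A.hom] [GrpObj At]
  {φ : ∀ T : Over S, PicF.Cl (PicF.XT A.hom T) → (T ⟶ At)}

/-- The inverse image of a Poincaré class by a point. -/
noncomputable def graph (x : PicLoc.PicSet ((Over.pullback At.hom).obj A).left) (lam : A ⟶ At) :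
    PicLoc.PicSet (A ⊗ A).left :=
  pull (PicF.XTmap A.hom lam) x

variable {x : PicLoc.PicSet ((Over.pullback At.hom).obj A).left}
  (hφ : AbDual.IsDualAV Scheme.fppfPrecoverage A At φ) (hx : AbDual.IsPoincareCl A At φ x.1) (lam : A ⟶ At)

omit [IsProper A.hom] [Flat A.hom] [LocallyOfFinitePresentation A.hom] [GeometricallyIntegral A.hom] in
include hx in
theorem p0_graph : P0 A A (graph x lam) := P0.bc lam hx.1

omit [IsProper A.hom] [Flat A.hom] [LocallyOfFinitePresentation A.hom] [GeometricallyIntegral A.hom] in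
include hφ hx in
theorem phi_graph : φ A (graph x lam).1 = lam :=
  (phi_natural hφ lam hx.1).trans ((congrArg (lam ≫ ·) hx.2.1).trans (Category.comp_id _))

omit [IsProper A.hom] [Flat A.hom] [LocallyOfFinitePresentation A.hom] [GeometricallyIntegral A.hom] in
include hx in
theorem rig_graph : pull (PicF.secT A.hom η[A].left (Over.w η[A]) A) (graph x lam) = 1 := by
  have hr : pull (PicF.secT A.hom η[A].left (Over.w η[A]) At) x = 1 := Subtype.ext hx.2.2
  rw [graph, ← pull_comp, secT_XTmap, pull_comp, hr, map_one]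

omit [IsProper A.hom] [Flat A.hom] [LocallyOfFinitePresentation A.hom] [GeometricallyIntegral A.hom] in
include hx in
theorem left_graph : opull (lift (1 : A ⟶ A) (𝟙 A)) (graph x lam) = 1 :=
  ((congrArg (pull · (graph x lam)) secT_eq).symm.trans (rig_graph hx lam) : _)

include hφ hx in
theorem right_graph [IsMonHom lam] : opull (lift (𝟙 A) (1 : A ⟶ A)) (graph x lam) = 1 := by
  have hr : pull (PicF.secT A.hom η[A].left (Over.w η[A]) At) x = 1 := Subtype.ext hx.2.2
  let c := pull (PicF.XTmap A.hom η[At]) x
  have hc : c = 1 := by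
    refine EqOfPhi.eq_of_phi_eq hφ (P0.bc η[At] hx.1) p0_one ?_ (map_one _) ?_
    · rw [← pull_comp, secT_XTmap, pull_comp, hr, map_one]
    · rw [phi_natural hφ η[At] hx.1, hx.2.1, Category.comp_id, phi_one hφ, MonObj.one_eq_one]
  let j : A.left ⟶ PicF.XT A.hom (𝟙_ (Over S)) := pullback.lift (𝟙 _) A.hom (by simp)
  have e : (lift (𝟙 A) (1 : A ⟶ A)).left ≫ PicF.XTmap A.hom lam = j ≫ PicF.XTmap A.hom η[At] := by
    apply pullback.hom_ext
    · refine ((Category.assoc _ _ _).trans ((congrArg (_ ≫ ·)
        ((pullback.lift_fst _ _ _).trans (Category.comp_id _))).trans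
        (congrArg Over.Hom.left (lift_fst (𝟙 A) (1 : A ⟶ A))))).trans ?_
      exact ((Category.assoc _ _ _).trans ((congrArg (_ ≫ ·)
        ((pullback.lift_fst _ _ _).trans (Category.comp_id _))).trans (pullback.lift_fst _ _ _))).symm
    · refine ((Category.assoc _ _ _).trans ((congrArg (_ ≫ ·) (pullback.lift_snd _ _ _)).trans
        ((Category.assoc _ _ _).symm.trans (congrArg (· ≫ lam.left)
          (congrArg Over.Hom.left (lift_snd (𝟙 A) (1 : A ⟶ A))))))).trans ?_
      refine Eq.trans ?_ ((Category.assoc _ _ _).trans ((congrArg (_ ≫ ·) (pullback.lift_snd _ _ _)).trans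
        ((Category.assoc _ _ _).symm.trans (congrArg (· ≫ η[At].left) (pullback.lift_snd _ _ _))))).symm
      rw [← Over.comp_left, Hom.one_def, Category.assoc, IsMonHom.one_hom, Over.comp_left, Over.toUnit_left]
  show pull (lift (𝟙 A) (1 : A ⟶ A)).left (pull (PicF.XTmap A.hom lam) x) = 1
  rw [← pull_comp]
  refine (congrArg (pull · x) e).trans ((pull_comp _ _ x).trans ?_)
  exact (congrArg (pull j) hc).trans (map_one _)

include hφ hx in
/-- A homomorphism attached to an invertible module on each geometric fibre has symmetric graph class. -/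
theorem swp_graph [IsCommMonObj A] [IsMonHom lam]
    (hpol : ∀ (Ω : Type u) [Field Ω] [IsAlgClosed Ω] (t : Spec (CommRingCat.of Ω) ⟶ S),
      ∃ L : (Red.bc t A).left.Modules, PicF.IsInvertible L ∧
        AgPol.IsLambda (Red.bc t A) (Red.bc t At) (AgPol.bcDual t A At φ) L ((Over.pullback t).map lam)) :
    opull (swp A) (graph x lam) = graph x lam := by
  obtain ⟨L, hL, e⟩ := PicGrp.exists_eq_cls (graph x lam / opull (swp A) (graph x lam))
  suffices h : cls hL = 1 by
    rw [show cls hL = graph x lam / opull (swp A) (graph x lam) from e.symm, div_eq_one] at h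
    exact h.symm
  have h01 : lift (1 : A ⟶ A) (𝟙 A) ≫ swp A = lift (𝟙 A) 1 := by
    ext <;> simp
  have h10 : lift (𝟙 A) (1 : A ⟶ A) ≫ swp A = lift 1 (𝟙 A) := by
    ext <;> simp
  rw [← nonempty_iso_structure_iff hL]
  refine Groth.Abvar.Cube.trivial_of_fibres η[A] η[A] hL ?_ ?_ fun s => ?_
  · rw [nonempty_iso_structure_iff (PicLoc.isInvertible_pullback _ hL), ← pull_cls _ hL, ← Hom.one_def]
    show opull _ (cls hL) = 1
    rw [show cls hL = _ from e.symm, map_div, ← opull_comp, h10, left_graph hx, right_graph hφ hx, div_self']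
  · rw [nonempty_iso_structure_iff (PicLoc.isInvertible_pullback _ hL), ← pull_cls _ hL, ← Hom.one_def]
    show opull _ (cls hL) = 1
    rw [show cls hL = _ from e.symm, map_div, ← opull_comp, h01, left_graph hx, right_graph hφ hx, div_self']
  let Ω := AlgebraicClosure (S.residueField s)
  let t : Spec (CommRingCat.of Ω) ⟶ S :=
    Spec.map (CommRingCat.ofHom (algebraMap (S.residueField s) Ω)) ≫ S.fromSpecResidueField s
  have hs : t (IsLocalRing.closedPoint Ω) = s := by
    rw [Scheme.Hom.comp_apply, Scheme.fromSpecResidueField_apply]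
  let A' := Red.bc t A
  have : IsProper A'.hom := inferInstanceAs (IsProper (pullback.snd _ _))
  have : Flat A'.hom := inferInstanceAs (Flat (pullback.snd _ _))
  have : LocallyOfFinitePresentation A'.hom := inferInstanceAs (LocallyOfFinitePresentation (pullback.snd _ _))
  have : GeometricallyIntegral A'.hom := inferInstanceAs (GeometricallyIntegral (pullback.snd _ _))
  have := geometricallyConnected_of_integral A'.hom
  have : IsCommMonObj A' := inferInstance
  have sqA : IsPullback (pullback.fst A.hom t) A'.hom A.hom t := IsPullback.of_hasPullback _ _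
  obtain ⟨h, h1, h2, sq⟩ := Groth.Abvar.Cube.isPullback_tensor (X' := A') (Y' := A') sqA sqA
  obtain ⟨L', hL', N, hN, hNL, hlam⟩ := hpol Ω t
  have hNc := (isLambdaSheaf_iff hL' hN).1 hNL
  have hl : opull (lift (1 : A' ⟶ A') (𝟙 A')) (cls hN) = 1 := by
    have h3 : lift (1 : A' ⟶ A') (𝟙 A') ≫ μ[A'] = 𝟙 A' := by
      show (1 : A' ⟶ A') * 𝟙 A' = _
      rw [_root_.one_mul]
    rw [hNc, lamCls, map_mul, map_inv, map_mul, ← opull_comp, ← opull_comp, ← opull_comp, h3, lift_fst,
      lift_snd, Groth.Abvar.PicCalc.opull_one, _root_.one_mul, mul_inv_cancel]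
  have hsw : opull (swp A') (cls hN) = cls hN := by rw [hNc]; exact swp_lamCls _
  have hN0 : P0 A' A' (cls hN) := by
    refine Axis.p0_of_axis η[A'] ?_
    show opull _ (cls hN) = 1
    rw [← Hom.one_def]
    rw [← hsw, ← opull_comp, show lift (𝟙 A') (1 : A' ⟶ A') ≫ swp A' = lift 1 (𝟙 A') by ext <;> simp]
    exact hl
  let T : Over S := Over.mk (A'.hom ≫ t)
  let p' : T ⟶ A := Over.homMk (pullback.fst A.hom t) sqA.w
  let b := AgPol.bcXTIso t A A'
  let c1 : PicLoc.PicSet ((Over.pullback T.hom).obj A).left := pull b.inv (cls hN)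
  have hb1 : b.inv ≫ pullback.snd A'.hom A'.hom = pullback.snd A.hom T.hom :=
    pullbackLeftPullbackSndIso_inv_snd_snd _ _ _
  have hc1 : P0 A T c1 := by
    have hi := PicLoc.isInvertible_pullback b.inv hN
    rw [show c1 = cls hi from pull_cls _ hN, p0_iff]
    intro y Ω' _ _ σ hσ
    let G : pullback ((Over.pullback T.hom).obj A).hom σ ⟶ pullback ((Over.pullback A'.hom).obj A').hom σ :=
      pullback.map _ _ _ _ b.inv (𝟙 _) (𝟙 _) (by rw [Category.comp_id]; exact hb1.symm) (by simp)
    refine isAlgEquivZero_of_iso _ ((Scheme.Modules.pullbackComp G _).app N ≪≫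
      (Scheme.Modules.pullbackCongr (pullback.lift_fst _ _ _)).app N ≪≫
      ((Scheme.Modules.pullbackComp _ b.inv).app N).symm) ?_
    exact isAlgEquivZero_pullback _ _ G ((pullback.lift_snd _ _ _).trans (Category.comp_id _))
      ((p0_iff hN).1 hN0 y Ω' σ hσ)
  have hsec : PicF.secT A.hom η[A].left (Over.w η[A]) T ≫ b.inv =
      PicF.secT A'.hom η[A'].left (Over.w η[A']) A' := by
    rw [← cancel_mono b.hom, Category.assoc, b.inv_hom_id, Category.comp_id]
    apply pullback.hom_ext
    · rw [Category.assoc]
      erw [pullbackLeftPullbackSndIso_hom_fst, pullback.lift_fst, pullback.lift_fst_assoc]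
      rw [Category.assoc]
      show (A'.hom ≫ t) ≫ η[A].left = _
      rw [Category.assoc]
      refine congrArg (A'.hom ≫ ·) ?_
      simp [Functor.obj.η_def]
      erw [pullback.lift_fst]
      exact (Category.assoc _ _ _).symm.trans ((congrArg (· ≫ η[A].left) pullback.condition.symm).trans (by simp))
    · rw [Category.assoc]
      erw [pullbackLeftPullbackSndIso_hom_snd, pullback.lift_snd, pullback.lift_snd]
      rfl
  have hphi : φ T c1.1 = φ T (pull (PicF.XTmap A.hom p') (graph x lam)).1 := by
    rw [phi_natural hφ p' (p0_graph hx lam), phi_graph hφ hx]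
    apply Over.OverMorphism.ext
    have := congrArg (fun f : A' ⟶ Red.bc t At => f.left ≫ pullback.fst At.hom t) hlam
    refine Eq.trans ?_ (this.trans (pullback.lift_fst _ _ _))
    exact (pullback.lift_fst _ _ _).symm
  have key : c1 = pull (PicF.XTmap A.hom p') (graph x lam) := by
    refine EqOfPhi.eq_of_phi_eq hφ hc1 (P0.bc p' (p0_graph hx lam)) ?_ ?_ hphi
    · rw [← pull_comp, hsec]
      exact (congrArg (pull · (cls hN)) secT_eq).trans hl
    · rw [← pull_comp, secT_XTmap, pull_comp, rig_graph hx, map_one]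
  have hbh : b.hom ≫ PicF.XTmap A.hom p' = h := by
    apply pullback.hom_ext
    · erw [h1, Category.assoc, pullback.lift_fst, Category.comp_id]
      exact pullbackLeftPullbackSndIso_hom_fst _ _ _
    · erw [h2, Category.assoc, pullback.lift_snd]
      rw [← Category.assoc]
      exact congrArg (· ≫ pullback.fst A.hom t) (pullbackLeftPullbackSndIso_hom_snd _ _ _)
  have hR : pull h (graph x lam) = (cls hN : PicLoc.PicSet (A' ⊗ A').left) := by
    refine ((congrArg (pull · (graph x lam)) hbh).symm.trans (pull_comp _ _ _)).trans ?_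
    rw [← key]
    exact (pull_comp _ _ _).symm.trans ((congrArg (pull · (cls hN)) b.hom_inv_id).trans (pull_id _))
  have hhs : h ≫ (swp A).left = (swp A').left ≫ h := by
    apply pullback.hom_ext
    · refine (Category.assoc _ _ _).trans ((congrArg (h ≫ ·) (congrArg Over.Hom.left (lift_fst (snd A A) (fst A A)))).trans ?_)
      refine h2.trans ?_
      refine Eq.trans ?_ ((congrArg ((swp A').left ≫ ·) h1.symm).trans (Category.assoc _ _ _).symm)
      rw [← Category.assoc]
      exact congrArg (· ≫ pullback.fst A.hom t) (congrArg Over.Hom.left (lift_fst (snd A' A') (fst A' A'))).symm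
    · refine (Category.assoc _ _ _).trans ((congrArg (h ≫ ·) (congrArg Over.Hom.left (lift_snd (snd A A) (fst A A)))).trans ?_)
      refine h1.trans ?_
      refine Eq.trans ?_ ((congrArg ((swp A').left ≫ ·) h2.symm).trans (Category.assoc _ _ _).symm)
      rw [← Category.assoc]
      exact congrArg (· ≫ pullback.fst A.hom t) (congrArg Over.Hom.left (lift_snd (snd A' A') (fst A' A'))).symm
  have := Groth.Abvar.Cube.geometricallyIntegral_tensor A A
  have := Groth.Abvar.Cube.isProper_tensor A A
  have := Groth.Abvar.Cube.flat_tensor A A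
  have := Groth.Abvar.Cube.locallyOfFinitePresentation_tensor A A
  have := Groth.Abvar.Cube.geometricallyIntegral_tensor A' A'
  have := Groth.Abvar.Cube.isProper_tensor A' A'
  have := Groth.Abvar.Cube.flat_tensor A' A'
  have := Groth.Abvar.Cube.locallyOfFinitePresentation_tensor A' A'
  have := geometricallyConnected_of_integral (A' ⊗ A').hom
  rw [← hs]
  refine fibTriv_of_bc sq (IsLocalRing.closedPoint Ω) hL (h0Const_of_geometrically _ _) ?_
  rw [fibTriv_iff _ (PicAux.isInvertible_pullback h hL)]
  show pull _ (cls (PicLoc.isInvertible_pullback h hL)) = 1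
  rw [← pull_cls h hL, show cls hL = _ from e.symm, map_div, ← pull_comp h, hhs, pull_comp, hR,
    show pull (swp A').left (cls hN : PicLoc.PicSet (A' ⊗ A').left) = cls hN from hsw, div_self', map_one]

/-- The graph class at a pair of points. -/
noncomputable abbrev pairing (x : PicLoc.PicSet ((Over.pullback At.hom).obj A).left) (lam : A ⟶ At) {X : Over S}
    (f g : X ⟶ A) : PicLoc.PicSet X.left :=
  opull (lift f g) (graph x lam)

include hx in
theorem pairing_mul_left {X : Over S} (f g h : X ⟶ A) :
    pairing x lam (f * g) h = pairing x lam f h * pairing x lam g h := by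
  have key : ∀ f : X ⟶ A, (lift (𝟙 X) h : X ⟶ X ⊗ A).left ≫ ((Over.pullback A.hom).map f).left =
      (lift f h).left := fun f => by
    apply pullback.hom_ext
    · refine (Category.assoc _ _ _).trans ((congrArg (_ ≫ ·) (pullback.lift_fst _ _ _)).trans
        ((Category.assoc _ _ _).symm.trans ?_))
      refine (congrArg (· ≫ f.left) (congrArg Over.Hom.left (lift_fst (𝟙 X) h))).trans ((Category.id_comp _).trans ?_)
      exact (congrArg Over.Hom.left (lift_fst f h)).symm
    · refine (Category.assoc _ _ _).trans ((congrArg (_ ≫ ·) (pullback.lift_snd _ _ _)).trans ?_)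
      exact (congrArg Over.Hom.left (lift_snd (𝟙 X) h)).trans (congrArg Over.Hom.left (lift_snd f h)).symm
  have e := congrArg (pull (lift (𝟙 X) h : X ⟶ X ⊗ A).left)
    (P0.mul_points_of_rig (p0_graph hx lam) (rig_graph hx lam) f g)
  refine ((congrArg (pull · (graph x lam)) (key _)).symm.trans (pull_comp _ _ _)).trans (e.trans ?_)
  refine (map_mul _ _ _).trans (congrArg₂ (· * ·) ?_ ?_)
  · exact (pull_comp _ _ _).symm.trans (congrArg (pull · (graph x lam)) (key f))
  · exact (pull_comp _ _ _).symm.trans (congrArg (pull · (graph x lam)) (key g))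

include hx in
/-- A symmetric graph class is half the Mumford class of its restriction to the diagonal. -/
theorem lamCls_diag [IsCommMonObj A] (hsym : opull (swp A) (graph x lam) = graph x lam) :
    lamCls (pairing x lam (𝟙 A) (𝟙 A)) = graph x lam * graph x lam := by
  have hs : ∀ {X : Over S} (f g : X ⟶ A), pairing x lam f g = pairing x lam g f := fun {X} f g => by
    rw [pairing, pairing, ← hsym, ← opull_comp, hsym]
    congr 1
    congr 1
    ext <;> simp
  have hd : ∀ {X : Over S} (f : X ⟶ A), opull f (pairing x lam (𝟙 A) (𝟙 A)) = pairing x lam f f := fun {X} f => by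
    rw [pairing, pairing, ← opull_comp, comp_lift, Category.comp_id]
  have hμ : μ[A] = fst A A * snd A A := by rw [Hom.mul_def, lift_fst_snd, Category.id_comp]
  have h1 : pairing x lam (fst A A) (snd A A) = graph x lam := by
    rw [pairing, lift_fst_snd, opull_id]
  rw [lamCls, hd, hd, hd, hμ, pairing_mul_left hx, hs (fst A A) (fst A A * snd A A),
    hs (snd A A) (fst A A * snd A A), pairing_mul_left hx, pairing_mul_left hx, hs (snd A A) (fst A A), h1]
  rw [mul_inv_eq_iff_eq_mul]
  simp only [_root_.mul_assoc, mul_comm, mul_left_comm]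

include hx in
theorem p0_graph_pow [GeometricallyConnected A.hom] (hφ : AbDual.IsDualAV Scheme.fppfPrecoverage A At φ)
    [IsMonHom lam] (k : ℕ) : P0 A A (graph x lam ^ k) := by
  refine Axis.p0_of_axis η[A] ?_
  show opull _ (graph x lam ^ k) = 1
  rw [← Hom.one_def, map_pow, right_graph hφ hx, one_pow]

include hφ hx in
theorem phi_graph_pow [GeometricallyConnected A.hom] [IsMonHom lam] :
    ∀ k : ℕ, φ A (graph x lam ^ k).1 = lam ^ k
  | 0 => by rw [pow_zero, pow_zero, phi_one hφ]
  | k + 1 => by
    rw [pow_succ (graph x lam), pow_succ lam, phi_mul hφ (p0_graph_pow hx lam hφ k) (p0_graph hx lam),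
      phi_graph_pow k, phi_graph hφ hx]

include hφ hx in
theorem graph_pow [GeometricallyConnected A.hom] [IsMonHom lam] (k : ℕ) :
    graph x (lam ^ k) = graph x lam ^ k := by
  refine EqOfPhi.eq_of_phi_eq hφ (p0_graph hx _) (p0_graph_pow hx lam hφ k) (rig_graph hx _) ?_ ?_
  · rw [map_pow, rig_graph hx, one_pow]
  · rw [phi_graph hφ hx, phi_graph_pow hφ hx lam k]

end graph

end Groth.Abvar.Dual.LamSymm
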