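import Groth.Agent.Abvar.Dual.BaseChange
import Groth.Agent.Abvar.Dual.LamSymm
import Groth.Agent.Abvar.Dual.Axis

/-!
# The homomorphism attached to a normalised class, and its base change
-/

set_option autoImplicit false

universe u

open CategoryTheory Limits MonoidalCategory CartesianMonoidalCategory MonObj GrpObj AlgebraicGeometry

namespace Groth.Abvar.Dual.LamBC

open Groth.Abvar.PicCalc Groth.Abvar.Dual Groth.Abvar.Dual.LamSymm Groth.Abvar.Dual.BaseChange

variable {S : Scheme.{u}} {A At : Over S} [GrpObj A] [IsCommMonObj A] [IsProper A.hom] [Flat A.hom]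
  [LocallyOfFinitePresentation A.hom] [GeometricallyIntegral A.hom] [GrpObj At]
  {φ : AgPol.DualMap A At} {l : PicLoc.PicSet A.left}

omit [IsProper A.hom] [Flat A.hom] [LocallyOfFinitePresentation A.hom] [GeometricallyIntegral A.hom] in
theorem opull_one_of_rig (hl : opull η[A] l = 1) (X : Over S) : opull (1 : X ⟶ A) l = 1 := by
  rw [Hom.one_def, opull_comp, hl, map_one]

omit [IsProper A.hom] [Flat A.hom] [LocallyOfFinitePresentation A.hom] [GeometricallyIntegral A.hom] in
theorem lamCls_right (hl : opull η[A] l = 1) : opull (lift (𝟙 A) (1 : A ⟶ A)) (lamCls l) = 1 := by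
  have h3 : lift (𝟙 A) (1 : A ⟶ A) ≫ μ[A] = 𝟙 A := by
    show 𝟙 A * (1 : A ⟶ A) = _
    rw [_root_.mul_one]
  rw [lamCls, map_mul, map_inv, map_mul, ← opull_comp, ← opull_comp, ← opull_comp, h3, lift_fst,
    lift_snd, opull_one_of_rig hl A, _root_.mul_one, mul_inv_cancel]

omit [IsProper A.hom] [Flat A.hom] [LocallyOfFinitePresentation A.hom] [GeometricallyIntegral A.hom] in
theorem lamCls_left (hl : opull η[A] l = 1) : opull (lift (1 : A ⟶ A) (𝟙 A)) (lamCls l) = 1 := by
  rw [← swp_lamCls, ← opull_comp, show lift (1 : A ⟶ A) (𝟙 A) ≫ swp A = lift (𝟙 A) 1 by ext <;> simp,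
    lamCls_right hl]

theorem rig_lamCls (hl : opull η[A] l = 1) :
    pull (PicF.secT A.hom η[A].left (Over.w η[A]) A) (lamCls l) = 1 := by
  rw [secT_eq]
  exact lamCls_left hl

theorem p0_lamCls (hl : opull η[A] l = 1) : P0 A A (lamCls l) := by
  have := Groth.Abvar.Seesaw.geometricallyConnected_of_integral A.hom
  refine Axis.p0_of_axis η[A] ?_
  show opull _ (lamCls l) = 1
  rw [← Hom.one_def]
  exact lamCls_right hl

/-- Inverse image by a point, read through the exchange of factors. -/
theorem pull_XTmap_lamCls {X : Over S} (f : X ⟶ A) :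
    pull (PicF.XTmap A.hom f) (lamCls l) =
      pull (pullbackSymmetry A.hom X.hom).hom (opull ((Over.pullback A.hom).map f) (lamCls l)) := by
  conv_lhs => rw [← swp_lamCls l]
  refine (pull_comp _ _ _).symm.trans (Eq.trans ?_ (pull_comp _ _ _))
  refine congrArg (pull · (lamCls l)) ?_
  apply pullback.hom_ext
  · refine (Category.assoc _ _ _).trans ((congrArg (_ ≫ ·) (congrArg Over.Hom.left (lift_fst (snd A A) (fst A A)))).trans ?_)
    refine (pullback.lift_snd _ _ _).trans (Eq.symm ?_)
    refine (Category.assoc _ _ _).trans ((congrArg (_ ≫ ·) (pullback.lift_fst _ _ _)).trans ?_)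
    exact (Category.assoc _ _ _).symm.trans (congrArg (· ≫ f.left) (pullbackSymmetry_hom_comp_fst _ _))
  · refine (Category.assoc _ _ _).trans ((congrArg (_ ≫ ·) (congrArg Over.Hom.left (lift_snd (snd A A) (fst A A)))).trans ?_)
    refine ((pullback.lift_fst _ _ _).trans (Category.comp_id _)).trans (Eq.symm ?_)
    refine (Category.assoc _ _ _).trans ((congrArg (_ ≫ ·) (pullback.lift_snd _ _ _)).trans ?_)
    exact pullbackSymmetry_hom_comp_snd _ _

variable (hφ : AbDual.IsDualAV Scheme.fppfPrecoverage A At φ)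

include hφ in
/-- The attached morphism is a homomorphism. -/
theorem isMonHom_lam (hl : opull η[A] l = 1) : IsMonHom (φ A (lamCls l).1) := by
  have hP := p0_lamCls hl
  have hmul : ∀ (X : Over S) (f g : X ⟶ A),
      (f * g) ≫ φ A (lamCls l).1 = f ≫ φ A (lamCls l).1 * g ≫ φ A (lamCls l).1 := fun X f g => by
    rw [← phi_natural hφ _ hP, ← phi_natural hφ f hP, ← phi_natural hφ g hP,
      ← phi_mul hφ (P0.bc f hP) (P0.bc g hP), pull_XTmap_lamCls, pull_XTmap_lamCls, pull_XTmap_lamCls,
      P0.mul_points_of_rig hP (rig_lamCls hl) f g, map_mul]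
  constructor
  · have e := hmul (𝟙_ (Over S)) 1 1
    rw [_root_.mul_one] at e
    have h1 := mul_left_cancel ((_root_.mul_one _).trans e)
    rw [MonObj.one_eq_one, MonObj.one_eq_one]
    exact h1.symm
  · have e := hmul (A ⊗ A) (fst A A) (snd A A)
    rw [Hom.mul_def, lift_fst_snd, Category.id_comp] at e
    rw [e, Hom.mul_def]
    refine congrArg (· ≫ μ[At]) ?_
    ext <;> simp

variable {S' : Scheme.{u}} (t : S' ⟶ S)

omit [IsProper A.hom] [Flat A.hom] [LocallyOfFinitePresentation A.hom] [GeometricallyIntegral A.hom] in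
/-- Multiplication of points of the base change. -/
theorem ofBC_mul {U : Over S'} (a b : U ⟶ Red.bc t A) : ofBC t (a * b) = ofBC t a * ofBC t b :=
  toBC_injective t (by rw [toBC_ofBC, toBC_mul, toBC_ofBC, toBC_ofBC])

omit [IsCommMonObj A] [IsProper A.hom] [Flat A.hom] [LocallyOfFinitePresentation A.hom]
  [GeometricallyIntegral A.hom] [GrpObj A] in
/-- The class on the base change pulled along a point. -/
theorem opull_bc {U : Over S'} (a : U ⟶ Red.bc t A) (c : PicLoc.PicSet A.left) :
    opull a (pull (pullback.fst A.hom t) c) = opull (ofBC t a) c :=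
  (pull_comp _ _ c).symm

include hφ in
/-- The attached morphism commutes with base change. -/
theorem bcDual_lamCls (hl : opull η[A] l = 1) :
    AgPol.bcDual t A At φ (Red.bc t A) (lamCls (A := Red.bc t A) (pull (pullback.fst A.hom t) l)).1 =
      (Over.pullback t).map (φ A (lamCls l).1) := by
  let A' := Red.bc t A
  let p : ovT t A' ⟶ A := ofBC t (𝟙 A')
  let h0 : ovT t (A' ⊗ A') ⟶ A ⊗ A := lift (ofBC t (fst A' A')) (ofBC t (snd A' A'))
  have hm : h0 ≫ μ[A] = ofBC t μ[A'] := by
    rw [show μ[A'] = fst A' A' * snd A' A' by rw [Hom.mul_def, lift_fst_snd, Category.id_comp], ofBC_mul]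
    rfl
  have hc : lamCls (A := A') (pull (pullback.fst A.hom t) l) = (opull h0 (lamCls l) : PicLoc.PicSet (A' ⊗ A').left) := by
    rw [lamCls, lamCls, opull_bc, opull_bc, opull_bc, map_mul, map_inv, map_mul, ← opull_comp, ← opull_comp,
      ← opull_comp, hm, lift_fst, lift_snd]
  have hb : (AgPol.bcXTIso t A A').hom ≫ PicF.XTmap A.hom p = h0.left := by
    apply pullback.hom_ext
    · erw [Category.assoc, pullback.lift_fst, Category.comp_id]
      refine (pullbackLeftPullbackSndIso_hom_fst _ _ _).trans (Eq.symm ?_)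
      exact congrArg Over.Hom.left (lift_fst (ofBC t (fst A' A')) (ofBC t (snd A' A')))
    · erw [Category.assoc, pullback.lift_snd]
      refine Eq.trans ?_ (congrArg Over.Hom.left (lift_snd (ofBC t (fst A' A')) (ofBC t (snd A' A')))).symm
      show _ = (snd A' A').left ≫ pullback.fst A.hom t
      rw [← Category.assoc, bcXTIso_hom_snd]
      show pullback.snd _ _ ≫ (𝟙 A'.left ≫ _) = _
      rw [Category.id_comp]
      rfl
  have hu : lamCls (A := A') (pull (pullback.fst A.hom t) l) = up t A A' (pull (PicF.XTmap A.hom p) (lamCls l)) :=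
    hc.trans ((congrArg (pull · (lamCls l)) hb).symm.trans (pull_comp _ _ _))
  refine (congrArg (fun c => AgPol.bcDual t A At φ A' c.1) hu).trans ?_
  rw [bcDual_up, phi_natural hφ p (p0_lamCls hl)]
  refine toBC_ext t ?_
  rw [toBC_left_fst]
  refine Eq.trans ?_ (pullback.lift_fst _ _ _).symm
  exact congrArg (· ≫ _) (Category.id_comp _)

omit [IsCommMonObj A] [IsProper A.hom] [Flat A.hom] [LocallyOfFinitePresentation A.hom]
  [GeometricallyIntegral A.hom] in
theorem unit_bc_fst : η[Red.bc t A].left ≫ pullback.fst A.hom t = t ≫ η[A].left := by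
  simp [Functor.obj.η_def]
  erw [pullback.lift_fst]
  exact Eq.symm ((Category.assoc _ _ _).symm.trans ((congrArg (· ≫ η[A].left)
    (pullback.condition (f := 𝟙 S) (g := t)).symm).trans
      (congrArg (· ≫ η[A].left) (Category.comp_id _))))

end Groth.Abvar.Dual.LamBC
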