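import Groth.Agent.Abvar.Dual.AlgZero
import Groth.Agent.Abvar.Cube.AbelianScheme
import Groth.Agent.Abvar.Seesaw.FieldDescent
import Groth.Agent.Abvar.Seesaw.Global
import Groth.Agent.Abvar.Seesaw.Descend
import Groth.Agent.GrpschAbsch.FibreFlat

/-!
# The group law on classes in `Pic⁰` of an abelian scheme
-/

universe u

open CategoryTheory Limits MonoidalCategory CartesianMonoidalCategory MonObj GrpObj AlgebraicGeometry
  TopologicalSpace

namespace Groth.Abvar.Dual

open PicCalc Seesaw

/-- An abelian scheme in the sense of a smooth proper group scheme with connected fibres has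
geometrically integral fibres. -/
theorem geometricallyIntegral_of_smooth {S : Scheme.{u}} (X : Over S) [GrpObj X] [IsProper X.hom]
    [Smooth X.hom] [GeometricallyConnected X.hom] : GeometricallyIntegral X.hom :=
  have := GrpschAbsch.FibreFlat.geometricallyReduced_of_smooth X.hom
  Groth.Abvar.Cube.geometricallyIntegral_of_grpObj X

section algEquiv

variable {k : Type u} [Field k] {X : Scheme.{u}} (p : X ⟶ Spec (CommRingCat.of k))

theorem isAlgEquivZero_of_iso {L L' : X.Modules} (i : L ≅ L')
    (h : @Pic13.IsAlgEquivZero k _ X ⟨p⟩ L) : @Pic13.IsAlgEquivZero k _ X ⟨p⟩ L' := by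
  obtain ⟨T, q, hc, hlft, hqc, M, hM, t, t₀, ht, ht₀, ⟨e⟩, h₀⟩ := h
  exact ⟨T, q, hc, hlft, hqc, M, hM, t, t₀, ht, ht₀, ⟨e ≪≫ i⟩, h₀⟩

theorem isAlgEquivZero_structureModule :
    @Pic13.IsAlgEquivZero k _ X ⟨p⟩ (Coh.structureModule X) := by
  have : ConnectedSpace ↥(Spec (CommRingCat.of k)) :=
    inferInstanceAs (ConnectedSpace (PrimeSpectrum k))
  obtain ⟨e⟩ := PicAux.pullback_structure_iso
    (@Pic13.sliceAt k _ X ⟨p⟩ _ (𝟙 _) (𝟙 _) (Category.id_comp _))
  exact ⟨Spec (CommRingCat.of k), 𝟙 _, inferInstance, inferInstance, inferInstance,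
    Coh.structureModule _, PicLoc.isInvertible_structureModule _, 𝟙 _, 𝟙 _, Category.id_comp _,
    Category.id_comp _, ⟨e⟩, ⟨e⟩⟩

end algEquiv

variable {S : Scheme.{u}}

section classes

variable {A X : Over S} {T : Over S}

/-- A class lies in `Pic⁰` over `T`. -/
abbrev P0 (A : Over S) (T : Over S) (c : PicLoc.PicSet ((Over.pullback T.hom).obj A).left) : Prop :=
  AbDual.IsPicZeroCl A.hom T c.1

theorem p0_iff {L : ((Over.pullback T.hom).obj A).left.Modules} (hL : PicF.IsInvertible L) :
    P0 A T (cls hL) ↔ ∀ t : T.left, AbDual.IsAlgTrivialAt ((Over.pullback T.hom).obj A).hom L t := by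
  refine ⟨fun h t Ω _ _ σ hσ => ?_, fun h => ⟨L, rfl, hL, h⟩⟩
  obtain ⟨L', e, hL', h'⟩ := h
  obtain ⟨i⟩ := (PicGrp.cls_eq_cls_iff hL' hL).1 (Subtype.ext e)
  exact isAlgEquivZero_of_iso _ ((Scheme.Modules.pullback _).mapIso i) (h' t Ω σ hσ)

/-- `Pic⁰` is stable under inverse image along morphisms over `S`. -/
theorem P0.opull {c : PicLoc.PicSet ((Over.pullback T.hom).obj A).left} (h : P0 A T c) (f : X ⟶ A) :
    P0 X T (PicCalc.opull ((Over.pullback T.hom).map f) c) := by
  obtain ⟨L, hL, rfl⟩ := PicGrp.exists_eq_cls c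
  have h' := (p0_iff hL).1 h
  change P0 X T (pull ((Over.pullback T.hom).map f).left (cls hL))
  rw [pull_cls _ hL, p0_iff]
  intro t Ω _ _ σ hσ
  let F := ((Over.pullback T.hom).map f).left
  have hF : F ≫ ((Over.pullback T.hom).obj A).hom = ((Over.pullback T.hom).obj X).hom := Over.w _
  let G : pullback ((Over.pullback T.hom).obj X).hom σ ⟶ pullback ((Over.pullback T.hom).obj A).hom σ :=
    pullback.lift (pullback.fst _ _ ≫ F) (pullback.snd _ _)
      (by rw [Category.assoc, hF]; exact pullback.condition)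
  refine isAlgEquivZero_of_iso _
    ((Scheme.Modules.pullbackComp G _).app L ≪≫
      (Scheme.Modules.pullbackCongr (pullback.lift_fst _ _ _)).app L ≪≫
      ((Scheme.Modules.pullbackComp _ F).app L).symm) ?_
  exact isAlgEquivZero_pullback _ _ G (pullback.lift_snd _ _ _) (h' t Ω σ hσ)

/-- Classes from the base lie in `Pic⁰`. -/
theorem p0_pull_snd (d : PicLoc.PicSet T.left) :
    P0 A T (pull ((Over.pullback T.hom).obj A).hom d) := by
  obtain ⟨M, hM, rfl⟩ := PicGrp.exists_eq_cls d
  rw [pull_cls _ hM, p0_iff]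
  intro t Ω _ _ σ hσ
  obtain ⟨i⟩ : Nonempty ((Scheme.Modules.pullback σ).obj M ≅ Coh.structureModule _) :=
    (nonempty_iso_structure_iff (PicLoc.isInvertible_pullback σ hM)).2 (eq_one_of_subsingleton _)
  obtain ⟨j⟩ := PicAux.pullback_structure_iso (pullback.snd ((Over.pullback T.hom).obj A).hom σ)
  exact isAlgEquivZero_of_iso _
    (((Scheme.Modules.pullbackComp _ _).app M ≪≫
      (Scheme.Modules.pullbackCongr pullback.condition).app M ≪≫
      ((Scheme.Modules.pullbackComp _ σ).app M).symm ≪≫
      (Scheme.Modules.pullback _).mapIso i ≪≫ j).symm) (isAlgEquivZero_structureModule _)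

theorem p0_one : P0 A T 1 := by
  rw [← map_one (pull ((Over.pullback T.hom).obj A).hom)]
  exact p0_pull_snd 1

/-- The class of a point of the trivial section. -/
theorem opull_one [GrpObj A] (c : PicLoc.PicSet ((Over.pullback T.hom).obj A).left) :
    PicCalc.opull ((Over.pullback T.hom).map (1 : X ⟶ A)) c =
      pull ((Over.pullback T.hom).obj X).hom
        (pull (PicF.secT A.hom η[A].left (Over.w η[A]) T) c) := by
  show pull ((Over.pullback T.hom).map (1 : X ⟶ A)).left c = _
  rw [← pull_comp]
  congr 2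
  refine pullback.hom_ext ?_ ?_
  · rw [Category.assoc]
    erw [pullback.lift_fst, pullback.lift_fst]
    rw [Hom.one_def, Over.comp_left, Over.toUnit_left, ← Category.assoc, ← Category.assoc]
    exact congrArg (· ≫ η[A].left) pullback.condition
  · rw [Category.assoc]
    erw [pullback.lift_snd, pullback.lift_snd]
    exact (Category.comp_id _).symm

/-- Inverse image along `XTmap`. -/
theorem pullCl_XTmap (f : X ⟶ A) (c : PicLoc.PicSet ((Over.pullback T.hom).obj A).left) :
    PicF.pullCl (AbDual.bcMap f T) c.1 = (PicCalc.opull ((Over.pullback T.hom).map f) c).1 := by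
  rw [bcMap_eq]
  rfl

end classes

section primitive

variable {A : Over S} [GrpObj A] [IsProper A.hom] [Flat A.hom] [LocallyOfFinitePresentation A.hom]
  [GeometricallyIntegral A.hom] {X T : Over S} {c : PicLoc.PicSet ((Over.pullback T.hom).obj A).left}

/-- Classes in `Pic⁰` are additive at points, up to the neutral term. -/
theorem P0.mul_points (h : P0 A T c) (f g : X ⟶ A) :
    PicCalc.opull ((Over.pullback T.hom).map (f * g)) c *
        PicCalc.opull ((Over.pullback T.hom).map (1 : X ⟶ A)) c =
      PicCalc.opull ((Over.pullback T.hom).map f) c * PicCalc.opull ((Over.pullback T.hom).map g) c := by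
  obtain ⟨L, hL, rfl⟩ := PicGrp.exists_eq_cls c
  exact pull_mul_points T.hom hL ((p0_iff hL).1 h) f g

/-- Rigidified classes in `Pic⁰` are additive at points. -/
theorem P0.mul_points_of_rig (h : P0 A T c)
    (hrig : pull (PicF.secT A.hom η[A].left (Over.w η[A]) T) c = 1) (f g : X ⟶ A) :
    PicCalc.opull ((Over.pullback T.hom).map (f * g)) c =
      PicCalc.opull ((Over.pullback T.hom).map f) c *
        PicCalc.opull ((Over.pullback T.hom).map g) c := by
  have e := h.mul_points f g
  rwa [opull_one, hrig, map_one, _root_.mul_one] at e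

end primitive

section dual

variable {K : Precoverage Scheme.{u}} {A At : Over S} [GrpObj At]
  {φ : ∀ T : Over S, PicF.Cl (PicF.XT A.hom T) → (T ⟶ At)}
  (hφ : AbDual.IsDualAV K A At φ) {T : Over S}

include hφ in
theorem phi_mul {c d : PicLoc.PicSet ((Over.pullback T.hom).obj A).left} (hc : P0 A T c)
    (hd : P0 A T d) : φ T (c * d).1 = φ T c.1 * φ T d.1 := by
  obtain ⟨L, hL, rfl⟩ := PicGrp.exists_eq_cls c
  obtain ⟨M, hM, rfl⟩ := PicGrp.exists_eq_cls d
  rw [← cls_tensorMod hL hM]
  exact hφ.mul T L M hc hd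

include hφ in
theorem phi_one : φ T (1 : PicLoc.PicSet ((Over.pullback T.hom).obj A).left).1 = 1 := by
  have h := phi_mul hφ (p0_one (A := A) (T := T)) p0_one
  rw [_root_.one_mul] at h
  exact mul_left_cancel (h.symm.trans (_root_.mul_one _).symm)

include hφ in
theorem phi_natural {T' : Over S} (g : T' ⟶ T) {c : PicLoc.PicSet ((Over.pullback T.hom).obj A).left}
    (hc : P0 A T c) : φ T' (pull (PicF.XTmap A.hom g) c).1 = g ≫ φ T c.1 :=
  hφ.relPic.natural T T' g c.1 hc

include hφ in
/-- The classes of the base correspond to the neutral point. -/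
theorem phi_pull_snd (d : PicLoc.PicSet T.left) :
    φ T (pull ((Over.pullback T.hom).obj A).hom d).1 = 1 := by
  obtain ⟨M, hM, rfl⟩ := PicGrp.exists_eq_cls d
  obtain ⟨U, s, hU, -, hs⟩ := PicAux.exists_gen_cover hM
  ext : 1
  refine (T.left.openCoverOfIsOpenCover U hU).hom_ext _ _ fun i => ?_
  show (U i).ι ≫ _ = (U i).ι ≫ _
  let g := AbDual.ovrHom T (U i).ι
  suffices h : g ≫ φ T (pull ((Over.pullback T.hom).obj A).hom (PicGrp.cls M hM)).1 = g ≫ 1 from
    congrArg Over.Hom.left h
  rw [← phi_natural hφ g (p0_pull_snd _), MonObj.comp_one]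
  have e : pull (U i).ι (cls hM) = 1 := by
    rw [pull_cls _ hM]
    exact (nonempty_iso_structure_iff _).1 ((exists_gen_iff_trivial M (U i)).1 ⟨_, hs i⟩)
  have : pull (PicF.XTmap A.hom g) (pull ((Over.pullback T.hom).obj A).hom (cls hM)) =
      pull (pullback.snd A.hom (AbDual.ovr T (U i).ι).hom) (pull (U i).ι (cls hM)) := by
    rw [← pull_comp, ← pull_comp]
    exact congrArg (fun m => pull m (cls hM)) (pullback.lift_snd _ _ _)
  rw [this, e, map_one]
  exact phi_one hφ

include hφ in
theorem phi_opull_one {X : Over S} [GrpObj X] (c : PicLoc.PicSet ((Over.pullback T.hom).obj X).left) :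
    φ T (PicCalc.opull ((Over.pullback T.hom).map (1 : A ⟶ X)) c).1 = 1 := by
  rw [opull_one]
  exact phi_pull_snd hφ _

end dual

section field

variable {k : Type u} [Field k] {A At : Over (Spec (CommRingCat.of k))} [GrpObj A] [IsProper A.hom]
  [Flat A.hom] [LocallyOfFinitePresentation A.hom] [GeometricallyIntegral A.hom] [GrpObj At]
  {φ : ∀ T : Over (Spec (CommRingCat.of k)), PicF.Cl (PicF.XT A.hom T) → (T ⟶ At)}
  (hφ : AbDual.IsDualAV Scheme.fppfPrecoverage A At φ) {T : Over (Spec (CommRingCat.of k))}
  [IsReduced T.left] [IsLocallyNoetherian T.left]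

include hφ in
/-- Over a reduced base, a rigidified class in `Pic⁰` is determined by its point of the dual. -/
theorem eq_of_phi_eq {c d : PicLoc.PicSet ((Over.pullback T.hom).obj A).left} (hc : P0 A T c)
    (hd : P0 A T d) (hcr : pull (PicF.secT A.hom η[A].left (Over.w η[A]) T) c = 1)
    (hdr : pull (PicF.secT A.hom η[A].left (Over.w η[A]) T) d = 1) (h : φ T c.1 = φ T d.1) :
    c = d := by
  obtain ⟨R, hR, hR'⟩ := hφ.relPic.locallyInjective T c.1 d.1 hc hd h
  obtain ⟨L, hL, e⟩ := PicGrp.exists_eq_cls (c / d)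
  let π := ((Over.pullback T.hom).obj A).hom
  have : IsProper π := inferInstanceAs (IsProper (pullback.snd _ _))
  have : Flat π := inferInstanceAs (Flat (pullback.snd _ _))
  have : LocallyOfFinitePresentation π :=
    inferInstanceAs (LocallyOfFinitePresentation (pullback.snd _ _))
  have : GeometricallyIntegral π := inferInstanceAs (GeometricallyIntegral (pullback.snd _ _))
  have := geometricallyConnected_of_integral π
  have h0 := fun t => h0Const_of_geometrically π t
  have hfib : ∀ t, FibTriv π L t := by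
    intro t
    obtain ⟨_, _, @⟨U, u, hu⟩, w, rfl⟩ := (Types.mem_jointlySurjectivePrecoverage_iff.1 hR.1) t
    let g := AbDual.ovrHom T u
    have sq : IsPullback (PicF.XTmap A.hom g) (pullback.snd A.hom (AbDual.ovr T u).hom) π u :=
      IsPullback.of_right (by
        rw [show PicF.XTmap A.hom g ≫ pullback.fst A.hom T.hom =
          pullback.fst A.hom (AbDual.ovr T u).hom from
          (pullback.lift_fst _ _ _).trans (Category.comp_id _)]
        exact IsPullback.of_hasPullback A.hom (AbDual.ovr T u).hom)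
        (pullback.lift_snd _ _ _) (IsPullback.of_hasPullback A.hom T.hom)
    have : IsProper (pullback.snd A.hom (AbDual.ovr T u).hom) := inferInstance
    have : GeometricallyIntegral (pullback.snd A.hom (AbDual.ovr T u).hom) := inferInstance
    have := geometricallyConnected_of_integral (pullback.snd A.hom (AbDual.ovr T u).hom)
    refine fibTriv_of_bc sq w hL (h0Const_of_geometrically _ w) ?_
    rw [fibTriv_iff _ (PicAux.isInvertible_pullback _ hL)]
    show pull _ (cls (PicLoc.isInvertible_pullback (PicF.XTmap A.hom g) hL)) = 1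
    have e' : pull (PicF.XTmap A.hom g) c = pull (PicF.XTmap A.hom g) d := Subtype.ext (hR' u hu)
    rw [← pull_cls _ hL, show cls hL = c / d from e.symm, map_div, e', div_self', map_one]
  have hloc := exists_gen_of_fibTriv π hL h0 hfib
  have := trivial_of_local π (e := PicF.secT A.hom η[A].left (Over.w η[A]) T)
    (pullback.lift_snd _ _ _) (fun V => GrpschAbsch.H0General.app_bijective π V) hloc (by
      rw [nonempty_iso_structure_iff (PicLoc.isInvertible_pullback _ hL), ← pull_cls _ hL,
        show cls hL = c / d from e.symm, map_div, hcr, hdr, div_self'])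
  rw [nonempty_iso_structure_iff hL, show cls hL = c / d from e.symm] at this
  exact div_eq_one.1 this

end field

section poincare

variable {A T T' : Over S} (g : T' ⟶ T)

/-- `Pic⁰` is stable under base change. -/
theorem P0.bc {c : PicLoc.PicSet ((Over.pullback T.hom).obj A).left} (h : P0 A T c) :
    P0 A T' (pull (PicF.XTmap A.hom g) c) := by
  obtain ⟨L, hL, rfl⟩ := PicGrp.exists_eq_cls c
  have h' := (p0_iff hL).1 h
  rw [pull_cls _ hL, p0_iff]
  intro t Ω _ _ σ hσ
  let F := PicF.XTmap A.hom g
  have hF : F ≫ ((Over.pullback T.hom).obj A).hom = ((Over.pullback T'.hom).obj A).hom ≫ g.left :=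
    pullback.lift_snd _ _ _
  let G : pullback ((Over.pullback T'.hom).obj A).hom σ ⟶
      pullback ((Over.pullback T.hom).obj A).hom (σ ≫ g.left) :=
    pullback.lift (pullback.fst _ _ ≫ F) (pullback.snd _ _)
      (by rw [Category.assoc, hF, ← Category.assoc, pullback.condition, Category.assoc])
  refine isAlgEquivZero_of_iso _
    ((Scheme.Modules.pullbackComp G _).app L ≪≫
      (Scheme.Modules.pullbackCongr (pullback.lift_fst _ _ _)).app L ≪≫
      ((Scheme.Modules.pullbackComp _ F).app L).symm) ?_
  refine isAlgEquivZero_pullback _ _ G (pullback.lift_snd _ _ _) (h' (g.left t) Ω (σ ≫ g.left) ?_)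
  rw [Scheme.Hom.comp_base, TopCat.coe_comp, Set.range_comp, hσ, Set.image_singleton]

theorem secT_XTmap [GrpObj A] :
    PicF.secT A.hom η[A].left (Over.w η[A]) T' ≫ PicF.XTmap A.hom g =
      g.left ≫ PicF.secT A.hom η[A].left (Over.w η[A]) T := by
  refine pullback.hom_ext ?_ ?_
  · rw [Category.assoc, Category.assoc]
    erw [pullback.lift_fst, pullback.lift_fst]
    rw [← Over.w g, Category.assoc]
    exact congrArg (g.left ≫ ·) (pullback.lift_fst _ _ _).symm
  · rw [Category.assoc, Category.assoc]
    erw [pullback.lift_snd, pullback.lift_snd]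
    rw [← Category.assoc]
    exact (congrArg (· ≫ g.left) (pullback.lift_snd _ _ _)).trans
      ((Category.id_comp _).trans (Category.comp_id _).symm)

end poincare

section poincareField

variable {k : Type u} [Field k] {A At : Over (Spec (CommRingCat.of k))} [GrpObj A] [IsProper A.hom]
  [Flat A.hom] [LocallyOfFinitePresentation A.hom] [GeometricallyIntegral A.hom] [GrpObj At]
  [IsReduced At.left] [IsLocallyNoetherian At.left]
  {φ : ∀ T : Over (Spec (CommRingCat.of k)), PicF.Cl (PicF.XT A.hom T) → (T ⟶ At)}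
  (hφ : AbDual.IsDualAV Scheme.fppfPrecoverage A At φ)
  {P : PicLoc.PicSet ((Over.pullback At.hom).obj A).left}
  (hP : AbDual.IsPoincareCl A At φ P.1)

omit [IsReduced At.left] [IsLocallyNoetherian At.left] in
include hP in
/-- Multiplication on the first factor of a Poincaré class. -/
theorem poincare_pow (n : ℕ) :
    PicCalc.opull ((Over.pullback At.hom).map (𝟙 A ^ n)) P = P ^ n := by
  have hr : pull (PicF.secT A.hom η[A].left (Over.w η[A]) At) P = 1 := Subtype.ext hP.2.2
  induction n with
  | zero => rw [pow_zero (𝟙 A), opull_one, hr, map_one, pow_zero]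
  | succ n ih =>
    rw [pow_succ, P0.mul_points_of_rig hP.1 hr, ih, CategoryTheory.Functor.map_id, opull_id,
      pow_succ]

omit [IsReduced At.left] [IsLocallyNoetherian At.left] in
include hP in
/-- Inversion on the first factor of a Poincaré class. -/
theorem poincare_inv :
    PicCalc.opull ((Over.pullback At.hom).map (𝟙 A)⁻¹) P * P = 1 := by
  have hr : pull (PicF.secT A.hom η[A].left (Over.w η[A]) At) P = 1 := Subtype.ext hP.2.2
  have e := P0.mul_points_of_rig hP.1 hr (𝟙 A)⁻¹ (𝟙 A)
  rw [inv_mul_cancel, opull_one, hr, map_one, CategoryTheory.Functor.map_id, opull_id] at e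
  exact e.symm

include hφ hP in
/-- A rigidified class with the point of a base change of the Poincaré class is that base change. -/
theorem eq_poincare_bc (g : At ⟶ At) {c : PicLoc.PicSet ((Over.pullback At.hom).obj A).left}
    (hc : P0 A At c) (hcr : pull (PicF.secT A.hom η[A].left (Over.w η[A]) At) c = 1)
    (h : φ At c.1 = g) : pull (PicF.XTmap A.hom g) P = c := by
  have hr : pull (PicF.secT A.hom η[A].left (Over.w η[A]) At) P = 1 := Subtype.ext hP.2.2
  refine eq_of_phi_eq hφ (P0.bc g hP.1) hc ?_ hcr ?_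
  · rw [← pull_comp, secT_XTmap, pull_comp, hr, map_one]
  · rw [phi_natural hφ g hP.1, hP.2.1, Category.comp_id, h]

include hφ hP in
/-- Multiplication on the second factor of a Poincaré class. -/
theorem poincare_pow_right (n : ℕ) : pull (PicF.XTmap A.hom (𝟙 At ^ n)) P = P ^ n := by
  have hr : pull (PicF.secT A.hom η[A].left (Over.w η[A]) At) P = 1 := Subtype.ext hP.2.2
  have hp : ∀ m, P0 A At (P ^ m) := fun m => by rw [← poincare_pow hP m]; exact P0.opull hP.1 _
  refine eq_poincare_bc hφ hP _ (hp n) (by rw [map_pow, hr, one_pow]) ?_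
  induction n with
  | zero => rw [pow_zero P, pow_zero (𝟙 At)]; exact phi_one hφ
  | succ n ih => rw [pow_succ P, phi_mul hφ (hp n) hP.1, ih, hP.2.1, pow_succ (𝟙 At)]

include hφ hP in
/-- Inversion on the second factor of a Poincaré class. -/
theorem poincare_inv_right :
    @pull ((Over.pullback At.hom).obj A).left ((Over.pullback At.hom).obj A).left
      (PicF.XTmap A.hom (𝟙 At)⁻¹) P * P = 1 := by
  have hr : pull (PicF.secT A.hom η[A].left (Over.w η[A]) At) P = 1 := Subtype.ext hP.2.2
  have e := poincare_inv (φ := φ) hP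
  rw [eq_poincare_bc hφ hP _ (P0.opull hP.1 (𝟙 A)⁻¹) ?_ ?_]
  · exact e
  · have := congrArg (pull (PicF.secT A.hom η[A].left (Over.w η[A]) At)) e
    rwa [map_mul, hr, _root_.mul_one, map_one] at this
  · refine eq_inv_of_mul_eq_one_left ?_
    have := congrArg (fun c => φ At c.1) e
    rw [phi_mul hφ (P0.opull hP.1 _) hP.1, hP.2.1, phi_one hφ] at this
    exact this

end poincareField

end Groth.Abvar.Dual
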