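import Groth.Agent.Abvar.Cube.AnyBase
import Groth.Agent.Abvar.PicCalc
import Groth.Prelude.Def_Pic13

/-!
# Families of classes algebraically equivalent to zero are primitive

For an abelian scheme `A/S` and a morphism `b : B ⟶ S`, a class on `A ×_S B` which is algebraically
equivalent to zero on the geometric fibres over `B` satisfies
`(f + g)^* m + 0^* m = f^* m + g^* m` for points `f`, `g` of `A`.
-/

universe u

open CategoryTheory Limits MonoidalCategory CartesianMonoidalCategory MonObj GrpObj AlgebraicGeometry
  TopologicalSpace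

namespace Groth.Abvar.Dual

open PicCalc Seesaw Groth.Abvar.Cube

section classes

variable {P B : Scheme.{u}}

/-- Triviality on a fibre, for classes. -/
theorem fibTriv_iff (π : P ⟶ B) {L : P.Modules} (hL : PicF.IsInvertible L) (y : B) :
    FibTriv π L y ↔ pull (π.fiberι y) (cls hL) = 1 := by
  rw [pull_cls _ hL]
  exact nonempty_iso_structure_iff _

end classes

section base

variable {S : Scheme.{u}} {A : Over S} [GrpObj A]

/-- The defect of additivity of a class at two points. -/
noncomputable def dfct {T : Over S} (c : PicLoc.PicSet A.left) (f g : T ⟶ A) :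
    PicLoc.PicSet T.left :=
  opull (f * g) c * opull (1 : T ⟶ A) c / (opull f c * opull g c)

theorem opull_dfct {T T' : Over S} (m : T' ⟶ T) (c : PicLoc.PicSet A.left) (f g : T ⟶ A) :
    opull m (dfct c f g) = dfct c (m ≫ f) (m ≫ g) := by
  simp only [dfct, map_div, map_mul, ← opull_comp, MonObj.comp_mul, MonObj.comp_one]

theorem dfct_one_left {T : Over S} (c : PicLoc.PicSet A.left) (g : T ⟶ A) : dfct c 1 g = 1 := by
  rw [dfct, show (1 : T ⟶ A) * g = g from _root_.one_mul g, mul_comm, div_self']

theorem dfct_one_right {T : Over S} (c : PicLoc.PicSet A.left) (f : T ⟶ A) : dfct c f 1 = 1 := by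
  rw [dfct, show f * (1 : T ⟶ A) = f from _root_.mul_one f, div_self']

theorem dfct_univ_slices (c : PicLoc.PicSet A.left) :
    opull (lift (𝟙 A) (toUnit A ≫ η[A])) (dfct c (fst A A) (snd A A)) = 1 ∧
      opull (lift (toUnit A ≫ η[A]) (𝟙 A)) (dfct c (fst A A) (snd A A)) = 1 := by
  constructor <;> rw [opull_dfct, lift_fst, lift_snd, ← Hom.one_def]
  · exact dfct_one_right c _
  · exact dfct_one_left c _

variable [IsProper A.hom] [Flat A.hom] [LocallyOfFinitePresentation A.hom]
  [GeometricallyIntegral A.hom]

/-- The defect is trivial on the fibre over a point. -/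
def PrimAt (c : PicLoc.PicSet A.left) (s : S) : Prop :=
  pull ((A ⊗ A).hom.fiberι s) (dfct c (fst A A) (snd A A)) = 1

/-- The defect is trivial on an open and closed set of fibres, and trivial when trivial on all. -/
theorem primAt_clopen (c : PicLoc.PicSet A.left) :
    IsClopen {s : S | PrimAt c s} ∧
      ((∀ s, PrimAt c s) → dfct c (fst A A) (snd A A) = 1) := by
  obtain ⟨L, hL, e⟩ := PicGrp.exists_eq_cls (dfct c (fst A A) (snd A A))
  have hX : Nonempty ((Scheme.Modules.pullback (lift (𝟙 A) (toUnit A ≫ η[A])).left).obj L ≅
      Coh.structureModule A.left) := by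
    rw [nonempty_iso_structure_iff (PicLoc.isInvertible_pullback _ hL), ← pull_cls _ hL]
    change opull _ (PicGrp.cls L hL) = 1
    rw [← e]; exact (dfct_univ_slices c).1
  have hY : Nonempty ((Scheme.Modules.pullback (lift (toUnit A ≫ η[A]) (𝟙 A)).left).obj L ≅
      Coh.structureModule A.left) := by
    rw [nonempty_iso_structure_iff (PicLoc.isInvertible_pullback _ hL), ← pull_cls _ hL]
    change opull _ (PicGrp.cls L hL) = 1
    rw [← e]; exact (dfct_univ_slices c).2
  have hs : {s : S | PrimAt c s} = {s | FibTriv (A ⊗ A).hom L s} := by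
    ext s
    show PrimAt c s ↔ FibTriv (A ⊗ A).hom L s
    rw [fibTriv_iff _ hL, PrimAt, e]
  refine ⟨hs ▸ isClopen_fibTriv η[A] η[A] hL hX hY, fun hall => ?_⟩
  rw [e, ← nonempty_iso_structure_iff hL]
  exact trivial_of_fibres η[A] η[A] hL hX hY fun s => (Set.ext_iff.1 hs s).1 (hall s)

end base

section baseChange

variable {S : Scheme.{u}} (A : Over S) [GrpObj A] {B : Scheme.{u}} (b : B ⟶ S)

/-- The defect of a class on a base change of `A`, on the base change of `A ⊗ A`. -/
noncomputable def relDfct (m : PicLoc.PicSet ((Over.pullback b).obj A).left) :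
    PicLoc.PicSet ((Over.pullback b).obj (A ⊗ A)).left :=
  opull ((Over.pullback b).map (fst A A * snd A A)) m *
      opull ((Over.pullback b).map (1 : A ⊗ A ⟶ A)) m /
    (opull ((Over.pullback b).map (fst A A)) m * opull ((Over.pullback b).map (snd A A)) m)

variable {B' : Scheme.{u}} (a : B' ⟶ B)

/-- The comparison of two base changes. -/
noncomputable def bcComp (X : Over S) :
    ((Over.pullback (a ≫ b)).obj X).left ⟶ ((Over.pullback b).obj X).left :=
  pullback.map X.hom (a ≫ b) X.hom b (𝟙 _) a (𝟙 _) (by simp) (by simp)

theorem bcComp_map {X Y : Over S} (f : X ⟶ Y) :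
    bcComp b a X ≫ ((Over.pullback b).map f).left =
      ((Over.pullback (a ≫ b)).map f).left ≫ bcComp b a Y := by
  refine pullback.hom_ext ?_ ?_
  · simp only [bcComp, Over.pullback_map_left, Category.assoc]
    erw [pullback.lift_fst, pullback.lift_fst, pullback.lift_fst_assoc, pullback.lift_fst_assoc]
    simp
  · simp only [bcComp, Over.pullback_map_left, Category.assoc]
    erw [pullback.lift_snd, pullback.lift_snd, pullback.lift_snd]
    exact (pullback.lift_snd_assoc _ _ _ _).symm

theorem isPullback_bcComp (X : Over S) :
    IsPullback (bcComp b a X) ((Over.pullback (a ≫ b)).obj X).hom ((Over.pullback b).obj X).hom a :=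
  IsPullback.of_right (by
      rw [show bcComp b a X ≫ pullback.fst X.hom b = pullback.fst X.hom (a ≫ b) from
        (pullback.lift_fst _ _ _).trans (Category.comp_id _)]
      exact IsPullback.of_hasPullback X.hom (a ≫ b))
    (pullback.lift_snd _ _ _) (IsPullback.of_hasPullback X.hom b)

theorem pull_relDfct (m : PicLoc.PicSet ((Over.pullback b).obj A).left) :
    pull (bcComp b a (A ⊗ A)) (relDfct A b m) = relDfct A (a ≫ b) (pull (bcComp b a A) m) := by
  simp only [relDfct, opull, map_div, map_mul, ← pull_comp, bcComp_map]

variable {t : S ⟶ B} (ht : t ≫ b = 𝟙 S)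

/-- The slice of a base change through a section. -/
noncomputable def sliceMap (X : Over S) : X.left ⟶ ((Over.pullback b).obj X).left :=
  pullback.lift (𝟙 _) (X.hom ≫ t) (by rw [Category.id_comp, Category.assoc, ht, Category.comp_id])

theorem sliceMap_map {X Y : Over S} (f : X ⟶ Y) :
    sliceMap b ht X ≫ ((Over.pullback b).map f).left = f.left ≫ sliceMap b ht Y := by
  refine pullback.hom_ext ?_ ?_
  · simp only [sliceMap, Over.pullback_map_left, Category.assoc]
    erw [pullback.lift_fst, pullback.lift_fst, pullback.lift_fst_assoc]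
    simp
  · simp only [sliceMap, Over.pullback_map_left, Category.assoc]
    erw [pullback.lift_snd, pullback.lift_snd, pullback.lift_snd]
    rw [← Category.assoc, Over.w f]

theorem isPullback_sliceMap (X : Over S) :
    IsPullback (sliceMap b ht X) X.hom ((Over.pullback b).obj X).hom t :=
  IsPullback.of_right (by
      rw [show sliceMap b ht X ≫ pullback.fst X.hom b = 𝟙 _ from pullback.lift_fst _ _ _, ht]
      exact IsPullback.of_id_fst)
    (pullback.lift_snd _ _ _) (IsPullback.of_hasPullback X.hom b)

theorem pull_sliceMap_relDfct (m : PicLoc.PicSet ((Over.pullback b).obj A).left) :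
    pull (sliceMap b ht (A ⊗ A)) (relDfct A b m) =
      dfct (pull (sliceMap b ht A) m) (fst A A) (snd A A) := by
  simp only [relDfct, dfct, opull, map_div, map_mul, ← pull_comp, sliceMap_map]

/-- The defect after base change is the defect of the base changed group. -/
theorem relDfct_eq (m : PicLoc.PicSet ((Over.pullback b).obj A).left) :
    letI : GrpObj ((Over.pullback b).obj A) := Functor.grpObjObj
    relDfct A b m = opull (CartesianMonoidalCategory.prodComparison (Over.pullback b) A A)
      (dfct m (fst _ _) (snd _ _)) := by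
  let : GrpObj ((Over.pullback b).obj A) := Functor.grpObjObj
  rw [opull_dfct, CartesianMonoidalCategory.prodComparison_fst,
    CartesianMonoidalCategory.prodComparison_snd, dfct, relDfct]
  congr
  · exact ((Over.pullback b).homMonoidHom (X := A ⊗ A) (M := A)).map_mul _ _
  · exact ((Over.pullback b).homMonoidHom (X := A ⊗ A) (M := A)).map_one

variable [IsProper A.hom] [Flat A.hom] [LocallyOfFinitePresentation A.hom]
  [GeometricallyIntegral A.hom]

/-- The set of points over which the defect is trivial is open and closed, and the defect is trivial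
when it is everywhere. -/
theorem relDfct_clopen (m : PicLoc.PicSet ((Over.pullback b).obj A).left) :
    IsClopen {y : B | pull (((Over.pullback b).obj (A ⊗ A)).hom.fiberι y) (relDfct A b m) = 1} ∧
      ((∀ y, pull (((Over.pullback b).obj (A ⊗ A)).hom.fiberι y) (relDfct A b m) = 1) →
        relDfct A b m = 1) := by
  let : GrpObj ((Over.pullback b).obj A) := Functor.grpObjObj
  have : IsProper ((Over.pullback b).obj A).hom := inferInstanceAs (IsProper (pullback.snd _ _))
  have : Flat ((Over.pullback b).obj A).hom := inferInstanceAs (Flat (pullback.snd _ _))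
  have : LocallyOfFinitePresentation ((Over.pullback b).obj A).hom :=
    inferInstanceAs (LocallyOfFinitePresentation (pullback.snd _ _))
  have : GeometricallyIntegral ((Over.pullback b).obj A).hom :=
    inferInstanceAs (GeometricallyIntegral (pullback.snd _ _))
  let e := CartesianMonoidalCategory.prodComparison (Over.pullback b) A A
  have he : IsIso e := inferInstance
  have he' : IsIso e.left := inferInstanceAs (IsIso ((Over.forget _).map e))
  obtain ⟨h1, h2⟩ := primAt_clopen m
  have key : ∀ y : B, pull (((Over.pullback b).obj (A ⊗ A)).hom.fiberι y) (relDfct A b m) = 1 ↔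
      PrimAt m y := by
    intro y
    have sq : IsPullback e.left ((Over.pullback b).obj (A ⊗ A)).hom
        ((Over.pullback b).obj A ⊗ (Over.pullback b).obj A).hom (𝟙 B) :=
      IsPullback.of_horiz_isIso ⟨by rw [Category.comp_id]; exact Over.w e⟩
    obtain ⟨g, sqy, hg⟩ := exists_fibre_map sq y
    have : IsIso g := by
      have : IsIso ((𝟙 B : B ⟶ B).residueFieldMap y) := inferInstance
      exact sqy.isIso_fst_of_isIso
    rw [relDfct_eq, PrimAt, opull, ← pull_comp, ← hg, pull_comp]
    exact ⟨fun h => by
      have := congrArg (pull (inv g)) h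
      rwa [map_one, ← pull_comp, IsIso.inv_hom_id, pull_id] at this,
      fun h => (congrArg (pull g) h).trans (map_one _)⟩
  refine ⟨by simpa only [key] using h1, fun hall => ?_⟩
  rw [relDfct_eq, h2 fun y => (key y).1 (hall y), map_one]

/-- A trivial pullback over a field-valued point gives a trivial fibre. -/
theorem relDfct_fibre (m : PicLoc.PicSet ((Over.pullback b).obj A).left) {K : Type u} [Field K]
    (σ : Spec (CommRingCat.of K) ⟶ B) {P : Scheme.{u}}
    {g : P ⟶ ((Over.pullback b).obj (A ⊗ A)).left} {π : P ⟶ Spec (CommRingCat.of K)}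
    (H : IsPullback g π ((Over.pullback b).obj (A ⊗ A)).hom σ) (h : pull g (relDfct A b m) = 1) :
    pull (((Over.pullback b).obj (A ⊗ A)).hom.fiberι (σ (IsLocalRing.closedPoint K)))
      (relDfct A b m) = 1 := by
  obtain ⟨L, hL, e⟩ := PicGrp.exists_eq_cls (relDfct A b m)
  have := geometricallyIntegral_tensor A A
  have := isProper_tensor A A
  have := flat_tensor A A
  have := locallyOfFinitePresentation_tensor A A
  have : IsProper π := MorphismProperty.of_isPullback H (inferInstanceAs (IsProper (pullback.snd (A ⊗ A).hom b)))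
  have : Flat π := MorphismProperty.of_isPullback H (inferInstanceAs (Flat (pullback.snd (A ⊗ A).hom b)))
  have : LocallyOfFinitePresentation π := MorphismProperty.of_isPullback H
    (inferInstanceAs (LocallyOfFinitePresentation (pullback.snd (A ⊗ A).hom b)))
  have : GeometricallyIntegral π := MorphismProperty.of_isPullback H
    (inferInstanceAs (GeometricallyIntegral (pullback.snd (A ⊗ A).hom b)))
  have : IsProper ((Over.pullback b).obj (A ⊗ A)).hom :=
    inferInstanceAs (IsProper (pullback.snd (A ⊗ A).hom b))
  have := geometricallyConnected_of_integral π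
  rw [e] at h ⊢
  rw [← fibTriv_iff _ hL]
  refine fibTriv_of_bc H (IsLocalRing.closedPoint K) hL (h0Const_of_geometrically π _) ?_
  rw [fibTriv_iff _ (PicAux.isInvertible_pullback g hL)]
  show pull _ (cls (PicLoc.isInvertible_pullback g hL)) = 1
  rw [← pull_cls g hL, h, map_one]

end baseChange

section field

variable {k : Type u} [Field k] {A : Over (Spec (CommRingCat.of k))} [GrpObj A] [IsProper A.hom]
  [Flat A.hom] [LocallyOfFinitePresentation A.hom] [GeometricallyIntegral A.hom]

/-- A member of a connected family through the trivial class is primitive. -/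
theorem dfct_eq_one_of_family {T : Scheme.{u}} [ConnectedSpace T]
    (q : T ⟶ Spec (CommRingCat.of k)) (m : PicLoc.PicSet ((Over.pullback q).obj A).left)
    {t t₀ : Spec (CommRingCat.of k) ⟶ T} (ht : t ≫ q = 𝟙 _) (ht₀ : t₀ ≫ q = 𝟙 _)
    (h0 : pull (sliceMap q ht₀ A) m = 1) :
    dfct (pull (sliceMap q ht A) m) (fst A A) (snd A A) = 1 := by
  obtain ⟨h1, h2⟩ := relDfct_clopen A q m
  have hne := relDfct_fibre A q m t₀ (isPullback_sliceMap q ht₀ (A ⊗ A)) (by
    rw [pull_sliceMap_relDfct, h0]
    simp [dfct])
  have huniv := h1.eq_univ ⟨_, hne⟩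
  rw [← pull_sliceMap_relDfct, h2 fun y => (huniv.ge (Set.mem_univ y) : _), map_one]

end field

end Groth.Abvar.Dual
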